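import Cfsg.Agent.PushUpBlocks.Piece

/-!
A rank-one overgroup of the Baumann subgroup in a minimal parabolic group, with no hypothesis on its
characteristic subgroups.
-/

set_option autoImplicit false
set_option linter.unusedSectionVars false
set_option linter.style.haveILetI false

namespace Cfsg.Lib.PushUpFocal

open Subgroup Cfsg.Lib.FFSLTwo Cfsg.Lib.FFModule Cfsg.Lib.PushMin
open scoped commutatorElement

universe u

variable {G : Type u} [Group G] {p : ℕ} [Finite G] [hp : Fact p.Prime]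

theorem exists_over {T : Sylow p G} {W : Type u} [AddCommGroup W] [Finite W] (d : Env T W)
    (hm : Cfsg.IsPMinimal p G) (hcpG : centralizer (Cfsg.pCore p G : Set G) ≤ Cfsg.pCore p G) :
    ∃ (H : Subgroup G) (F : Type) (_ : Field F) (_ : Fintype F) (c : Cfsg.Lib.PushUp.Ctx p ↥H F),
      H ⊔ (T : Subgroup G) = ⊤ ∧ Cfsg.baumannSubgroupOf p (T : Subgroup G) ≤ H ∧
      (c.S : Subgroup ↥H) = (Cfsg.baumannSubgroupOf p (T : Subgroup G)).subgroupOf H ∧
      Cfsg.pCore p ↥H ≤ c.ψ.ker ∧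
      (∀ x ∈ Cfsg.pCore p ↥H, ∀ g : ↥H, ((⁅x, g⁆ : ↥H) : G) ∈ Cfsg.pCore p G) ∧
      ∀ q ∈ Cfsg.pCore p G, ∀ g ∈ H,
        ⁅q, g⁆ ∈ Cfsg.pCore p G ⊓ Cfsg.baumannSubgroupOf p (T : Subgroup G) := by
  classical
  obtain ⟨A₀, hA⟩ := d.glob.nonempty
  obtain ⟨X₀, hX, hnc⟩ := d.glob.exists_outer_nc hA.1
  set B := Cfsg.baumannSubgroupOf p (T : Subgroup G) with hBdef
  set π := prj p G with hπdef
  set W₀ := sSup d.glob.inSyl with hW₀
  set L := A₀ ⊔ X₀ with hL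
  have hπ : Function.Surjective π := QuotientGroup.mk'_surjective _
  have hBimg : B.map π = W₀ := d.baumann_image
  have hAW : A₀ ≤ W₀ := le_sSup hA
  -- the minimal overgroup
  obtain ⟨H, ⟨hBH, hHup, hdown⟩, hmin⟩ := Set.exists_min_image
    {H : Subgroup G | B ≤ H ∧ H.map π ≤ L ⊔ W₀ ∧ L ≤ H.map π} (fun H => Nat.card H) (Set.toFinite _)
    ⟨(L ⊔ W₀).comap π, map_le_iff_le_comap.1 (hBimg.le.trans le_sup_right), map_comap_le π _,
      (map_comap_eq_self_of_surjective hπ _).symm ▸ le_sup_left⟩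
  have hminimal : ∀ K : Subgroup G, B ≤ K → K ≤ H → L ≤ K.map π → K = H := fun K hBK hKH hLK =>
    Subgroup.eq_of_le_of_card_ge hKH (hmin K ⟨hBK, (map_mono hKH).trans hHup, hLK⟩)
  have hWc : ∀ w ∈ W₀, FFSLTwo.cj w A₀ = A₀ := fun w hw => by
    refine eq_of_le_of_card_ge ?_ (card_cj _ _).ge
    rintro _ ⟨a, ha, rfl⟩
    show w * a * w⁻¹ ∈ A₀
    rw [d.glob.inner_abelian w hw a (hAW ha), mul_inv_cancel_right]
    exact ha
  have hmove : ∃ x ∈ L, FFSLTwo.cj x A₀ ≠ A₀ := by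
    obtain ⟨x, hx, hx1⟩ := d.ff.exists_ne_one hX.1
    exact ⟨x, mem_sup_right hx, d.ff.cj_ne hX.1 hA.1 (fun hc => hnc hc.symm) hx hx1⟩
  have hpair : ∀ {k}, k ∈ L → FFSLTwo.cj k A₀ ≠ A₀ → A₀ ⊔ FFSLTwo.cj k A₀ = L :=
    fun hk hne => d.ff.sup_cj hA.1 hX.1 hnc hk hne
  -- the maximal subgroup over `B`
  have hmax : ∀ K : Subgroup G, B ≤ K → K ≤ H → K ≠ H → K.map π ≤ normalizer (A₀ : Set (G ⧸ cS p G)) := by
    intro K hBK hKH hne k hk
    have hnorm : ∀ k ∈ K.map π, FFSLTwo.cj k A₀ = A₀ := by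
      intro k hk
      by_contra hkA
      have h1 := hHup (map_mono hKH hk)
      rw [← SetLike.mem_coe, coe_mul_of_right_le_normalizer_left _ _
        (d.glob.inner_normalizes hA hX hnc)] at h1
      obtain ⟨l, hl, w, hw, rfl⟩ := h1
      have he : FFSLTwo.cj (l * w) A₀ = FFSLTwo.cj l A₀ := by rw [← cj_mul, hWc w hw]
      rw [he] at hkA
      refine hne (hminimal K hBK hKH ?_)
      rw [← hpair hl hkA, ← he]
      have hAK : A₀ ≤ K.map π := hAW.trans (hBimg.ge.trans (map_mono hBK))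
      refine _root_.sup_le hAK ?_
      rintro _ ⟨a, ha, rfl⟩
      exact mul_mem (mul_mem hk (hAK ha)) (inv_mem hk)
    rw [mem_normalizer_iff]
    intro z
    refine ⟨fun hz => conj_eq_self (hnorm k hk) hz, fun hz => ?_⟩
    rw [← hnorm k hk, mem_cj] at hz
    simpa [mul_assoc] using hz
  have hHnot : ¬ H.map π ≤ normalizer (A₀ : Set (G ⧸ cS p G)) := fun hle => by
    obtain ⟨x, hx, hne⟩ := hmove
    exact hne (mem_normalizer_iff_map_conj_eq.1 (hle (hdown hx)))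
  -- Sylow subgroups
  set Q := Cfsg.pCore p G
  have hQn : Q.Normal := Cfsg.Lib.PushMin.pCore_normal
  have hpimg : ∀ R : Subgroup G, IsPGroup p R → B ≤ R → R ≤ H → R ≤ (T : Subgroup G) ⊓ H := by
    intro R hR hBR hRH
    refine le_inf ?_ hRH
    have h1 : R.map π = W₀ := d.glob.sylow_pair_sup hA hX hnc (hR.map _)
      (hBimg.ge.trans (map_mono hBR)) ((map_mono hRH).trans hHup)
    intro r hr
    obtain ⟨b, hb, hbr⟩ := hBimg.ge (h1.le (mem_map_of_mem π hr))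
    obtain ⟨S, hS⟩ := hR.exists_le_sylow
    have h2 : b⁻¹ * r ∈ (S : Subgroup G) ⊓ cS p G :=
      ⟨hS (mul_mem (inv_mem (hBR hb)) hr), d.prj_eq_one.1 (by rw [map_mul, map_inv, hbr, inv_mul_cancel])⟩
    rw [d.sylow_inf_cS hm S] at h2
    simpa using (T : Subgroup G).mul_mem hb.1 (Cfsg.Lib.Coprime.pCore_le_sylow p T h2)
  have hBT : B ≤ (T : Subgroup G) := baumann_le T
  have hSBQ : (T : Subgroup G) ⊓ H ≤ B ⊔ (Q ⊓ H) := by
    intro r hr
    have h1 : ((T : Subgroup G) ⊓ H).map π = W₀ := d.glob.sylow_pair_sup hA hX hnc ((T.2.to_le inf_le_left).map _)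
      (hBimg.ge.trans (map_mono (le_inf hBT hBH))) ((map_mono inf_le_right).trans hHup)
    obtain ⟨b, hb, hbr⟩ := hBimg.ge (h1.le (mem_map_of_mem π hr))
    have h2 : b⁻¹ * r ∈ (T : Subgroup G) ⊓ cS p G :=
      ⟨(T : Subgroup G).mul_mem ((T : Subgroup G).inv_mem (hBT hb)) hr.1, d.prj_eq_one.1 (by rw [map_mul, map_inv, hbr, inv_mul_cancel])⟩
    rw [d.sylow_inf_cS hm T] at h2
    simpa using mul_mem_sup hb (show b⁻¹ * r ∈ Q ⊓ H from ⟨h2, H.mul_mem (H.inv_mem (hBH hb)) hr.2⟩)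
  obtain ⟨S, hS⟩ : ∃ S : Sylow p ↥H, (S : Subgroup ↥H) = ((T : Subgroup G) ⊓ H).subgroupOf H := by
    obtain ⟨S, hS⟩ := ((T.2.to_le (inf_le_left : (T : Subgroup G) ⊓ H ≤ T)).comap_subtype (K := H)).exists_le_sylow
    refine ⟨S, le_antisymm (fun r hr => ?_) hS⟩
    refine mem_subgroupOf.2 (hpimg _ (S.2.map H.subtype) (fun b hb => ⟨⟨b, hBH hb⟩, hS (mem_subgroupOf.2
      ⟨hBT hb, hBH hb⟩), rfl⟩) (map_subtype_le _) (mem_map_of_mem H.subtype hr))
  -- generation by conjugates of `B`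
  set Bh := B.subgroupOf H with hBh
  have hgen : normalClosure (Bh : Set ↥H) = ⊤ := by
    set N := normalClosure (Bh : Set ↥H)
    have hBN : B ≤ N.map H.subtype := fun b hb => ⟨⟨b, hBH hb⟩, subset_normalClosure hb, rfl⟩
    suffices hL : L ≤ (N.map H.subtype).map π by
      have e := congrArg (Subgroup.comap H.subtype) (hminimal _ hBN (map_subtype_le _) hL)
      rw [comap_map_eq_self_of_injective H.subtype_injective] at e
      rw [e]
      exact subgroupOf_self H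
    obtain ⟨x, hx, hne⟩ := hmove
    obtain ⟨k, hk, rfl⟩ := hdown hx
    rw [← hpair hx hne]
    refine _root_.sup_le (hAW.trans (hBimg.ge.trans (map_mono hBN))) ?_
    rintro _ ⟨a, ha, rfl⟩
    obtain ⟨b, hb, rfl⟩ := hBimg.ge (hAW ha)
    refine ⟨k * b * k⁻¹, ⟨⟨k, hk⟩ * ⟨b, hBH hb⟩ * ⟨k, hk⟩⁻¹, ?_, rfl⟩, by simp⟩
    exact normalClosure_normal.conj_mem _ (subset_normalClosure (show (⟨b, hBH hb⟩ : ↥H) ∈ Bh from hb)) _
  -- `Q ⊓ H ≤ B`
  have hUB : Q ⊓ H ≤ B := by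
    haveI := d.p0_normal hm
    haveI : ((Q ⊓ B).subgroupOf H).Normal := inferInstance
    haveI := hQn
    haveI : ((Q ⊓ H).subgroupOf H).Normal := by rw [inf_subgroupOf_right]; infer_instance
    have key := le_of_normal_closure (P := (Q ⊓ B).subgroupOf H) (B := B.subgroupOf H) (U := (Q ⊓ H).subgroupOf H) S
      (comap_mono inf_le_right) (hS ▸ comap_mono (le_inf hBT hBH))
      (hS ▸ comap_mono (le_inf (inf_le_left.trans (Cfsg.Lib.Coprime.pCore_le_sylow p T)) inf_le_right))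
      (by
        rw [hS, ← subgroupOf_sup hBH inf_le_right]
        exact comap_mono hSBQ)
      (by
        refine map_le_iff_le_comap.1 ?_
        rw [map_commutator]
        refine (commutator_mono (map_comap_le _ _) (map_comap_le _ _)).trans (le_inf ?_ ?_)
        · rw [show Q = (T : Subgroup G) ⊓ cS p G from (d.sylow_inf_cS hm T).symm]
          refine le_inf ((commutator_mono hBT hBT).trans (commutator_le_self _)) (commutator_le.2 fun a ha b hb => ?_)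
          refine d.prj_eq_one.1 ?_
          rw [map_commutatorElement, commutatorElement_eq_one_iff_mul_comm]
          exact d.glob.inner_abelian _ (hBimg.le (mem_map_of_mem π ha)) _ (hBimg.le (mem_map_of_mem π hb))
        · exact commutator_le_self _)
      (by
        refine map_le_iff_le_comap.1 ?_
        rw [map_commutator]
        exact (commutator_mono ((map_comap_le _ _).trans inf_le_left) (map_comap_le _ _)).trans d.core_comm_baumann)
      hgen ?_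
    · intro x hx
      exact mem_subgroupOf.1 (key (show (⟨x, hx.2⟩ : ↥H) ∈ (Q ⊓ H).subgroupOf H from hx))
    intro m hm
    have hle : FFSLTwo.cj (m : G) B ≤ (T : Subgroup G) := by
      rintro _ ⟨b, hb, rfl⟩
      have h1 := (mem_normalizer_iff.1 hm ⟨b, hBH hb⟩).1 (hS ▸ (mem_subgroupOf.2 ⟨hBT hb, hBH hb⟩))
      rw [hS] at h1
      exact (mem_subgroupOf.1 h1).1
    have he : (m : G) ∈ normalizer (B : Set G) := by
      have h2 := Cfsg.Lib.BlockPair.baumann_eq ((m : G) • T) T (by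
        rw [Sylow.coe_subgroup_smul]
        exact (Cfsg.Lib.BlockBasic.map_baumannSubgroupOf (p := p) (MulAut.conj (m : G)) (T : Subgroup G)) ▸ hle)
      rw [Sylow.coe_subgroup_smul] at h2
      rw [mem_normalizer_iff_map_conj_eq]
      show B.map (MulAut.conj (m : G)).toMonoidHom = B
      rw [hBdef, Cfsg.Lib.BlockBasic.map_baumannSubgroupOf]
      exact h2
    rw [mem_normalizer_iff]
    exact fun z => mem_normalizer_iff.1 he (z : G)
  have hsyl : (T : Subgroup G) ⊓ H = B :=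
    le_antisymm (hSBQ.trans (_root_.sup_le le_rfl hUB)) (le_inf hBT hBH)
  rw [hsyl] at hS
  -- the natural representation
  obtain ⟨F, iF, iFt, ρ, Ψ, hF, hΨs, hΨ0, hΨ⟩ := d.ff.natural hA.1 hX.1 hnc
  have hrest : ∀ w ∈ W₀, ∃ a ∈ A₀, ∀ v, Ψ (d.φ w v) = Ψ (d.φ a v) := by
    have hR : W₀ ≤ A₀ ⊔ sSup {X ∈ d.glob.inSyl | X ≠ A₀} := _root_.sSup_le fun X hX' => by
      by_cases hXA : X = A₀
      · exact hXA ▸ le_sup_left
      · exact le_sup_of_le_right (le_sSup ⟨hX', hXA⟩)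
    intro w hw
    have h1 := hR hw
    have hc : Comm (sSup {X ∈ d.glob.inSyl | X ≠ A₀}) A₀ := fun a ha b hb =>
      d.glob.inner_abelian a (sSup_le_sSup (fun X (hX : X ∈ {X ∈ d.glob.inSyl | X ≠ A₀}) => hX.1) ha) b (hAW hb)
    rw [← SetLike.mem_coe, coe_mul_of_right_le_normalizer_left _ _ (le_trans
      (fun r hr => mem_centralizer_iff.2 fun a ha => (hc r hr a ha).symm) (centralizer_le_normalizer _))] at h1
    obtain ⟨a, ha, r, hr, rfl⟩ := h1
    refine ⟨a, ha, fun v => ?_⟩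
    have hr0 : dd d.φ r v ∈ fixA d.φ A₀ ⊓ fixA d.φ X₀ := by
      let Kx : Subgroup (G ⧸ cS p G) :=
        { carrier := {r | ∀ v, dd d.φ r v ∈ fixA d.φ A₀ ⊓ fixA d.φ X₀ ∧ r ∈ centralizer ((A₀ ⊔ X₀ : Subgroup (G ⧸ cS p G)) : Set (G ⧸ cS p G))}
          one_mem' := fun v => ⟨by rw [dd_apply, phi_one, sub_self]; exact zero_mem _, one_mem _⟩
          mul_mem' := fun {a b} ha hb v => ⟨by
            rw [show dd d.φ (a * b) v = dd d.φ a (d.φ b v) + dd d.φ b v by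
              rw [dd_apply, dd_apply, dd_apply, phi_mul]; abel]
            exact add_mem (ha _).1 (hb v).1, mul_mem (ha v).2 (hb v).2⟩
          inv_mem' := fun {a} ha v => ⟨by
            rw [show dd d.φ a⁻¹ v = -dd d.φ a (d.φ a⁻¹ v) by rw [dd_apply, dd_apply, phi_cancel_inv]; abel]
            exact neg_mem (ha _).1, inv_mem (ha v).2⟩ }
      have hle : sSup {X ∈ d.glob.inSyl | X ≠ A₀} ≤ Kx := _root_.sSup_le fun Z hZ z hz v =>
        ⟨⟨(d.ff.comm_mem hZ.1.1 hA.1 (d.glob.inSyl_comm hZ.1 hA) hz v).2,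
          (d.ff.comm_mem hZ.1.1 hX.1 (d.glob.other_comm hA hZ.1 hX hnc hZ.2) hz v).2⟩,
          mem_centralizer_iff.2 fun y hy => (d.glob.rest_comm hA hX hnc z (le_sSup hZ hz) y hy).symm⟩
      exact (hle hr v).1
    rw [phi_mul, phi_eq_add r v, map_add (d.φ a), map_add Ψ, (show d.φ a (dd d.φ r v) = dd d.φ r v from hr0.1 a ha),
      (hΨ0 _).2 hr0, add_zero]
  have hmat : ∀ g : ↥H, ∃! m : Matrix.SpecialLinearGroup (Fin 2) F, ∀ v,
      Ψ (d.φ (π g) v) = (m : Matrix (Fin 2) (Fin 2) F).mulVec (Ψ v) := by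
    intro g
    have h1 := hHup (mem_map_of_mem π g.2)
    rw [← SetLike.mem_coe, coe_mul_of_right_le_normalizer_left _ _ (d.glob.inner_normalizes hA hX hnc)] at h1
    obtain ⟨l, hl, w, hw, hlw⟩ := h1
    obtain ⟨a, ha, haw⟩ := hrest w hw
    refine ⟨ρ ⟨l, hl⟩ * ρ ⟨a, le_sup_left (b := X₀) ha⟩, fun v => ?_, fun m hm => ?_⟩
    · rw [← hlw, phi_mul, hΨ ⟨l, hl⟩, haw, hΨ ⟨a, le_sup_left (b := X₀) ha⟩, Matrix.mulVec_mulVec,
        Matrix.SpecialLinearGroup.coe_mul]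
    · refine Subtype.ext (Matrix.ext_of_mulVec_single fun i => ?_)
      obtain ⟨v, hv⟩ := hΨs (Pi.single i 1)
      rw [← hv, ← hm v, ← hlw, phi_mul, hΨ ⟨l, hl⟩, haw, hΨ ⟨a, le_sup_left (b := X₀) ha⟩, Matrix.mulVec_mulVec,
        Matrix.SpecialLinearGroup.coe_mul]
  choose mf hmf huniq using hmat
  let ψ₁ : ↥H →* Matrix.SpecialLinearGroup (Fin 2) F := MonoidHom.mk' mf fun a b => (huniq (a * b) _ fun v => by
    rw [Subgroup.coe_mul, map_mul π, phi_mul, hmf, hmf, Matrix.mulVec_mulVec, Matrix.SpecialLinearGroup.coe_mul]).symm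
  have hψ₁ : Function.Surjective ψ₁ := by
    intro m
    obtain ⟨l, rfl⟩ := ρ.surjective m
    obtain ⟨k, hk, hkl⟩ := hdown l.2
    exact ⟨⟨k, hk⟩, (huniq ⟨k, hk⟩ _ fun v => by
      show Ψ (d.φ (π k) v) = _
      rw [hkl]; exact hΨ l v).symm⟩
  let ψ₂ := (QuotientGroup.mk' (center (Matrix.SpecialLinearGroup (Fin 2) F))).comp ψ₁
  have hψ₂ : Function.Surjective ψ₂ := (QuotientGroup.mk'_surjective _).comp hψ₁
  obtain ⟨n, hn⟩ := IsPGroup.iff_card.1 (isPGroup_el (d.ff.el hA.1))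
  rw [d.ff.card hA.1] at hn
  have hn1 : 1 ≤ n := Nat.pos_of_ne_zero fun h0 => by
    have := d.ff.one_lt
    rw [h0, pow_zero] at hn
    omega
  -- characteristic `p`
  have hP₀core : (Q ⊓ B).subgroupOf H ≤ Cfsg.pCore p ↥H := by
    haveI := d.p0_normal hm
    exact le_sSup ⟨inferInstance,
      ((Cfsg.Lib.Components.isPGroup_pCore p).to_le inf_le_left).comap_subtype⟩
  have hcp : centralizer (Cfsg.pCore p ↥H : Set ↥H) ≤ Cfsg.pCore p ↥H := by
    intro x hx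
    refine hP₀core (mem_subgroupOf.2 (d.p0_centralizer' hm hcpG (mem_centralizer_iff.2 fun y hy => ?_)))
    exact congrArg Subtype.val (mem_centralizer_iff.1 hx ⟨y, hBH hy.2⟩ (hP₀core (mem_subgroupOf.2 hy)))
  -- one maximal subgroup
  have huniqM : ∃! M : Subgroup ↥H, IsCoatom M ∧ (S : Subgroup ↥H) ≤ M := by
    set M₀ := ((normalizer (A₀ : Set (G ⧸ cS p G))).comap π).subgroupOf H with hM₀
    have hle : ∀ K : Subgroup ↥H, (S : Subgroup ↥H) ≤ K → K ≠ ⊤ → K ≤ M₀ := by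
      intro K hSK hK x hx
      refine mem_subgroupOf.2 (mem_comap.2 (hmax (K.map H.subtype) (fun b hb => ⟨⟨b, hBH hb⟩,
        hSK (hS ▸ mem_subgroupOf.2 hb), rfl⟩) (map_subtype_le _) (fun he => hK ?_)
        (mem_map_of_mem π (mem_map_of_mem H.subtype hx))))
      refine map_injective H.subtype_injective ?_
      rw [he, ← MonoidHom.range_eq_map, range_subtype]
    have hSM : (S : Subgroup ↥H) ≤ M₀ := fun b hb => by
      rw [hS] at hb
      refine mem_subgroupOf.2 (mem_comap.2 (mem_normalizer_iff_map_conj_eq.2 ?_))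
      exact hWc _ (hBimg.le (mem_map_of_mem π hb))
    have hM₀ne : M₀ ≠ ⊤ := fun ht => hHnot (by
      rintro _ ⟨x, hx, rfl⟩
      exact mem_comap.1 (mem_subgroupOf.1 (ht ▸ mem_top (⟨x, hx⟩ : ↥H))))
    refine ⟨M₀, ⟨⟨hM₀ne, fun K hK => ?_⟩, hSM⟩, fun K ⟨hK, hSK⟩ => ?_⟩
    · by_contra hne
      exact hK.not_ge (hle K (hSM.trans hK.le) hne)
    · rcases eq_or_lt_of_le (hle K hSK hK.1) with he | hlt
      · exact he
      · exact absurd (hK.2 _ hlt) hM₀ne
  -- the kernel of the action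
  have hBA : ∀ x ∈ (S : Subgroup ↥H), ∃ a, ∃ ha : a ∈ A₀, ψ₁ x = ρ ⟨a, le_sup_left (b := X₀) ha⟩ := fun x hx => by
    rw [hS] at hx
    obtain ⟨a, ha, hv⟩ := hrest _ (hBimg.le (mem_map_of_mem π (mem_subgroupOf.1 hx)))
    exact ⟨a, ha, (huniq x _ fun v => (hv v).trans (hΨ ⟨a, _⟩ v)).symm⟩
  have hcore1 : Cfsg.pCore p ↥H ≤ ψ₁.ker := by
    intro x hx
    obtain ⟨a, ha, hax⟩ := hBA x (Cfsg.Lib.Coprime.pCore_le_sylow p S hx)
    rw [MonoidHom.mem_ker, hax]
    obtain ⟨y, hy, hne⟩ := hmove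
    obtain ⟨k, hk, rfl⟩ := hdown hy
    obtain ⟨b, hb, hbx⟩ := hBA (⟨k, hk⟩⁻¹ * x * ⟨k, hk⟩) (Cfsg.Lib.Coprime.pCore_le_sylow p S (by
      simpa using (inferInstance : (Cfsg.pCore p ↥H).Normal).conj_mem x hx (⟨k, hk⟩ : ↥H)⁻¹))
    have hk' : ψ₁ ⟨k, hk⟩ = ρ ⟨π k, hy⟩ := (huniq ⟨k, hk⟩ _ fun v => hΨ ⟨π k, hy⟩ v).symm
    rw [map_mul, map_mul, map_inv, hax, hk', ← map_inv, ← map_mul, ← map_mul] at hbx
    have h1 : (π k)⁻¹ * a * π k = b := congrArg Subtype.val (ρ.injective hbx)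
    have h2 : a ∈ A₀ ⊓ FFSLTwo.cj (π k) A₀ := ⟨ha, mem_cj.2 (h1 ▸ hb)⟩
    rw [d.ff.inf_eq_bot hA.1 (d.ff.conj _ hA.1) hne.symm, mem_bot] at h2
    subst h2
    exact map_one ρ
  obtain ⟨M₁, ⟨hM₁, hSM₁⟩, hM₁u⟩ := huniqM
  let c : Cfsg.Lib.PushUp.Ctx p ↥H F :=
    { S := S, M := M₁, hMne := hM₁.ne_top
      le_M := fun X hX hSX => by
        obtain ⟨C, hC, hXC⟩ := (eq_top_or_exists_le_coatom X).resolve_left hX
        exact hM₁u C ⟨hC, hSX.trans hXC⟩ ▸ hXC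
      hc := hcp, ψ := ψ₂, hψ := hψ₂, n := n, hn := hn1, hF := hF.trans hn }
  -- the core centralises the image
  have hcomm : ∀ x ∈ Cfsg.pCore p ↥H, ∀ g : ↥H, Commute (π (x : G)) (π (g : G)) := by
    intro x hx g
    have hxB : (x : G) ∈ B := mem_subgroupOf.1 (hS.le (Cfsg.Lib.Coprime.pCore_le_sylow p S hx))
    have hxW : π (x : G) ∈ W₀ := hBimg.le (mem_map_of_mem π hxB)
    have hR : W₀ ≤ sSup {X ∈ d.glob.inSyl | X ≠ A₀} ⊔ A₀ := _root_.sSup_le fun X hX' => by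
      by_cases hXA : X = A₀
      · exact hXA ▸ le_sup_right
      · exact le_sup_of_le_left (le_sSup ⟨hX', hXA⟩)
    have hcm : sSup {X ∈ d.glob.inSyl | X ≠ A₀} ≤ centralizer ((L : Subgroup (G ⧸ cS p G)) : Set (G ⧸ cS p G)) :=
      fun r hr => mem_centralizer_iff.2 fun y hy => (d.glob.rest_comm hA hX hnc r hr y hy).symm
    have h1 := hR hxW
    rw [← SetLike.mem_coe, coe_mul_of_left_le_normalizer_right _ _ (le_trans (hcm.trans
      (centralizer_le (SetLike.coe_subset_coe.2 (le_sup_left : A₀ ≤ L)))) (centralizer_le_normalizer _))] at h1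
    obtain ⟨r, hr, a, ha, hra⟩ := h1
    have hrW : r ∈ W₀ := sSup_le_sSup (fun X (hX : X ∈ {X ∈ d.glob.inSyl | X ≠ A₀}) => hX.1) hr
    have hrc : ∀ y ∈ L ⊔ W₀, Commute r y := by
      intro y hy
      have hle : L ⊔ W₀ ≤ centralizer ({r} : Set (G ⧸ cS p G)) := _root_.sup_le
        (fun z hz => mem_centralizer_singleton_iff.2 (d.glob.rest_comm hA hX hnc r hr z hz).symm)
        fun z hz => mem_centralizer_singleton_iff.2 (d.glob.inner_abelian z hz r hrW)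
      exact (mem_centralizer_singleton_iff.1 (hle hy)).symm
    obtain ⟨y, hy, hne⟩ := hmove
    obtain ⟨k, hk, rfl⟩ := hdown hy
    have h2 : π (k * x * k⁻¹) ∈ W₀ := hBimg.le (mem_map_of_mem π (mem_subgroupOf.1 (hS.le
      (Cfsg.Lib.Coprime.pCore_le_sylow p S ((inferInstance : (Cfsg.pCore p ↥H).Normal).conj_mem x hx ⟨k, hk⟩)))))
    have he : π (k * (x : G) * k⁻¹) = r * (π k * a * (π k)⁻¹) := by
      rw [map_mul, map_mul, map_inv, ← hra, ← mul_assoc, ← (hrc _ (hHup (mem_map_of_mem π hk))).eq, mul_assoc r,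
        mul_assoc r]
    rw [he] at h2
    have hb : π k * a * (π k)⁻¹ ∈ W₀ := by simpa using mul_mem (inv_mem hrW) h2
    have hbL : π k * a * (π k)⁻¹ ∈ L := mul_mem (mul_mem hy (mem_sup_left ha)) (inv_mem hy)
    obtain ⟨a', ha', hv⟩ := hrest _ hb
    have h3 : ρ ⟨_, hbL⟩ = ρ ⟨a', mem_sup_left ha'⟩ := by
      refine Subtype.ext (Matrix.ext_of_mulVec_single fun i => ?_)
      obtain ⟨v, hv'⟩ := hΨs (Pi.single i 1)
      rw [← hv', ← hΨ ⟨_, hbL⟩, ← hΨ ⟨a', _⟩]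
      exact hv v
    have h4 : π k * a * (π k)⁻¹ ∈ A₀ ⊓ FFSLTwo.cj (π k) A₀ :=
      ⟨(show π k * a * (π k)⁻¹ = a' from congrArg Subtype.val (ρ.injective h3)) ▸ ha', ⟨a, ha, rfl⟩⟩
    rw [d.ff.inf_eq_bot hA.1 (d.ff.conj _ hA.1) hne.symm, mem_bot, conj_eq_one_iff] at h4
    rw [← hra, h4]
    simp only [mul_one]
    exact hrc _ (hHup (mem_map_of_mem π g.2))
  refine ⟨H, F, iF, iFt, c, ?_, hBH, hS, ?_, ?_, ?_⟩
  · by_contra hne
    exact hX.2 (le_sup_right.trans (hdown.trans (map_mono (le_sup_left.trans (d.le_M hm le_sup_right hne)))))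
  · exact hcore1.trans fun x hx => by
      rw [MonoidHom.mem_ker] at hx ⊢
      show ψ₂ x = 1
      rw [MonoidHom.comp_apply, hx, map_one]
  · intro x hx g
    rw [show Q = (T : Subgroup G) ⊓ cS p G from (d.sylow_inf_cS hm T).symm]
    refine ⟨baumann_le T (mem_subgroupOf.1 (hS.le (Cfsg.Lib.Coprime.pCore_le_sylow p S ?_))), ?_⟩
    · rw [show ⁅x, g⁆ = x * (g * x⁻¹ * g⁻¹) by simp only [commutatorElement_def]; group]
      exact mul_mem hx ((inferInstance : (Cfsg.pCore p ↥H).Normal).conj_mem _ (inv_mem hx) g)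
    · refine d.prj_eq_one.1 ?_
      show prj p G ⁅(x : G), (g : G)⁆ = 1
      rw [map_commutatorElement]
      exact commutatorElement_eq_one_iff_mul_comm.2 (hcomm x hx g)
  · haveI := hQn
    haveI := d.p0_normal hm
    intro q hq g hg
    have hle : normalClosure (Bh : Set ↥H) ≤ (Cfsg.Lib.BGN.P.fixN Q (Q ⊓ B)).subgroupOf H :=
      normalClosure_le_normal fun b hb z hz => d.core_comm_baumann (commutator_mem_commutator hz hb)
    exact hle (hgen.ge (mem_top (⟨g, hg⟩ : ↥H))) q hq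

end Cfsg.Lib.PushUpFocal
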