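import Cfsg.Agent.PushUpFocal.Deg
import Cfsg.Agent.PushUpFocal.Piece
import Cfsg.Agent.Components.Control.TransferNormal
import Cfsg.Agent.Components.Misc.PMinimalComp
import Cfsg.Agent.PushUpTransfer.Crit

/-!
At the prime three, the centre and one characteristic subgroup of a Sylow subgroup control `O_p ∩ G'` in a
group of characteristic `p`.
-/

set_option autoImplicit false
set_option linter.unusedSectionVars false
set_option linter.style.haveILetI false

namespace Cfsg.Lib.PushUpFocal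

open Subgroup Cfsg.Lib.PushMin
open scoped commutatorElement

universe u

/-- `C_B(Z(J(B)))` -/
def cOf {G : Type u} [Group G] (B : Subgroup G) : Subgroup G :=
  B ⊓ centralizer (Cfsg.centerThompsonAOf B : Set G)

/-- `C_B(Z(J(B)))` for the Baumann subgroup `B` of `T` -/
def cSub (p : ℕ) {G : Type u} [Group G] (T : Subgroup G) : Subgroup G :=
  cOf (Cfsg.baumannSubgroupOf p T)

variable {p : ℕ} [hp : Fact p.Prime] {L : Type u} [Group L] [Finite L]

theorem map_cOf {H : Type u} [Group H] [Finite H] (f : L →* H) (hf : Function.Injective f) (B : Subgroup L) :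
    (cOf B).map f = cOf (B.map f) := by
  rw [cOf, cOf, Cfsg.Lib.PushBlocks.map_inf_centralizer f hf, Cfsg.Lib.ZJ.centerThompsonAOf_map_injOn hf.injOn]

theorem map_baumann {H : Type u} [Group H] [Finite H] (f : L →* H) (hf : Function.Injective f) (T : Subgroup L) :
    (Cfsg.baumannSubgroupOf p T).map f = Cfsg.baumannSubgroupOf p (T.map f) := by
  rw [Cfsg.baumannSubgroupOf, Cfsg.baumannSubgroupOf, Cfsg.Lib.PushBlocks.map_inf_centralizer f hf,
    Cfsg.Lib.ZJ.omegaOne_map_injOn hf.injOn, Cfsg.centerThompsonOf, Cfsg.centerThompsonOf,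
    Cfsg.Lib.PushBlocks.map_inf_centralizer f hf, Cfsg.Lib.Thompson.map_thompsonSubgroupOf hf.injOn]

theorem map_cSub {H : Type u} [Group H] [Finite H] (f : L →* H) (hf : Function.Injective f) (T : Subgroup L) :
    (cSub p T).map f = cSub p (T.map f) := by
  rw [cSub, cSub, map_cOf f hf, map_baumann f hf]

theorem normalizer_le_cOf (B : Subgroup L) : normalizer (B : Set L) ≤ normalizer (cOf B : Set L) := by
  intro g hg
  rw [← Cfsg.Lib.Transfer.map_conj_eq_self_iff] at hg ⊢
  rw [map_cOf _ (MulAut.conj g).injective, hg]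

theorem cSub_le (T : Subgroup L) : cSub p T ≤ T := inf_le_left.trans inf_le_left

theorem normalizer_le_cSub (T : Subgroup L) : normalizer (T : Set L) ≤ normalizer (cSub p T : Set L) :=
  (normalizer_le_baumann (p := p) T).trans (normalizer_le_cOf _)

/-- with a unique maximal subgroup over `T`, a normal subgroup inside it meets `T` in a normal subgroup -/
theorem inf_normal {T : Sylow p L} {M : Subgroup L} (hMne : M ≠ ⊤)
    (hle : ∀ K : Subgroup L, (T : Subgroup L) ≤ K → K ≠ ⊤ → K ≤ M) (N : Subgroup L) [hN : N.Normal] (hNM : N ≤ M) :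
    ((T : Subgroup L) ⊓ N).Normal := by
  obtain ⟨R, hR⟩ := Cfsg.Lib.FFSLTwo.card_sylow_inf T N
  have hfr := Sylow.normalizer_sup_eq_top R
  rw [hR] at hfr
  rw [← normalizer_eq_top_iff]
  by_contra hne
  exact hMne (top_le_iff.1 (hfr ▸ sup_le (hle _ (Cfsg.Lib.Coprime.le_normalizer_inf Subgroup.le_normalizer
    (le_top.trans (normalizer_eq_top (H := N)).ge)) hne) hNM))

/-- if `Ω₁(Z(T))` is central then so is `Z(T)` -/
theorem center_central {T : Sylow p L} (hL : centralizer (Cfsg.pCore p L : Set L) ≤ Cfsg.pCore p L)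
    (h : Cfsg.omegaOneCenter p (T : Subgroup L) ≤ center L) :
    (T : Subgroup L) ⊓ centralizer ((T : Subgroup L) : Set L) ≤ center L := by
  classical
  set Q := Cfsg.pCore p L
  set A := Q ⊓ centralizer (Q : Set L)
  haveI : (centralizer (Q : Set L)).Normal := inferInstance
  haveI hAn : A.Normal := inferInstanceAs (Q ⊓ centralizer (Q : Set L)).Normal
  letI : CommGroup ↥A :=
    { (inferInstance : Group ↥A) with
      mul_comm := fun x y => Subtype.ext (mem_centralizer_iff.1 (y.2 : (y : L) ∈ A).2 _ (x.2 : (x : L) ∈ A).1) }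
  letI : Fintype (L ⧸ (T : Subgroup L)) := Fintype.ofFinite _
  set m := Fintype.card (L ⧸ (T : Subgroup L))
  have hm : ¬ p ∣ m := by
    rw [show m = (T : Subgroup L).index by rw [index_eq_card, Nat.card_eq_fintype_card]]
    exact T.not_dvd_index
  intro z hz
  have hzA : z ∈ A := by
    have h1 : z ∈ centralizer (Q : Set L) := centralizer_le (SetLike.coe_subset_coe.2
      (Cfsg.Lib.Coprime.pCore_le_sylow p T)) hz.2
    exact ⟨hL h1, h1⟩
  let F : ↥A → L ⧸ (T : Subgroup L) → ↥A := fun y q => MulAut.conjNormal q.out y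
  let Nm : ↥A → ↥A := fun y => ∏ q : L ⧸ (T : Subgroup L), F y q
  have hNmul : ∀ x y : ↥A, Nm (x * y) = Nm x * Nm y := fun x y => by
    simp only [Nm, F, map_mul, Finset.prod_mul_distrib]
  -- conjugation permutes the factors of a fixed point
  have hperm : ∀ y : ↥A, (y : L) ∈ centralizer ((T : Subgroup L) : Set L) →
      ∀ g : L, g * (Nm y : L) * g⁻¹ = (Nm y : L) := by
    intro y hy g
    suffices h2 : MulAut.conjNormal g (Nm y) = Nm y by
      have := congrArg Subtype.val h2
      rwa [MulAut.conjNormal_apply] at this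
    simp only [Nm, map_prod]
    refine Eq.trans (Finset.prod_congr rfl fun q _ => ?_) (Equiv.prod_comp (MulAction.toPerm g) (F y))
    show MulAut.conjNormal g (MulAut.conjNormal q.out y) = MulAut.conjNormal (g • q).out y
    obtain ⟨t, ht⟩ := QuotientGroup.mk_out_eq_mul (T : Subgroup L) (g * q.out)
    have he : (g • q).out = g * q.out * t := by
      rw [← ht]
      conv_lhs => rw [← QuotientGroup.out_eq' q]
      rfl
    refine Subtype.ext ?_
    simp only [MulAut.conjNormal_apply, he]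
    rw [show g * q.out * (t : L) * (y : L) * (g * q.out * (t : L))⁻¹ =
      g * (q.out * ((t : L) * (y : L) * (t : L)⁻¹) * q.out⁻¹) * g⁻¹ by group,
      mem_centralizer_iff.1 hy _ t.2, mul_inv_cancel_right]
  have hNc : ∀ y : ↥A, (y : L) ∈ center L → Nm y = y ^ m := fun y hy => by
    simp only [Nm, F]
    rw [Finset.prod_congr rfl (g := fun _ => y) fun q _ => Subtype.ext (by
      rw [MulAut.conjNormal_apply, mem_center_iff.1 hy q.out, mul_inv_cancel_right]), Finset.prod_const,
      Finset.card_univ]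
  have hAp : IsPGroup p ↥A := (Cfsg.Lib.Components.isPGroup_pCore p).to_le inf_le_left
  -- a fixed point of trivial norm is trivial
  have hinj : ∀ y : ↥A, (y : L) ∈ (T : Subgroup L) ⊓ centralizer ((T : Subgroup L) : Set L) → Nm y = 1 → y = 1 := by
    intro y hy hy1
    by_contra hne
    obtain ⟨k, hk⟩ := IsPGroup.iff_orderOf.1 hAp y
    obtain ⟨j, rfl⟩ : ∃ j, k = j + 1 := Nat.exists_eq_succ_of_ne_zero fun h0 => hne (by
      rw [h0, pow_zero] at hk; exact orderOf_eq_one_iff.1 hk)
    set w := y ^ p ^ j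
    have hwp : w ^ p = 1 := by rw [← pow_mul, ← pow_succ, ← hk, pow_orderOf_eq_one]
    have hw1 : w ≠ 1 := fun h1 => by
      have := orderOf_dvd_of_pow_eq_one h1
      rw [hk] at this
      exact absurd (Nat.le_of_dvd (pow_pos hp.out.pos _) this)
        (not_le.2 (Nat.pow_lt_pow_right hp.out.one_lt (Nat.lt_succ_self j)))
    have hwc : (w : L) ∈ center L := h (subset_closure ⟨pow_mem hy _, by
      rw [← Subgroup.coe_pow, hwp, Subgroup.coe_one]⟩)
    have hN1 : Nm w = 1 := by
      let φ : ↥A →* ↥A := MonoidHom.mk' Nm hNmul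
      show φ w = 1
      rw [map_pow, show φ y = 1 from hy1, one_pow]
    rw [hNc w hwc] at hN1
    exact hw1 (orderOf_eq_one_iff.1 (Nat.eq_one_of_dvd_coprimes ((hp.out.coprime_iff_not_dvd.2 hm))
      (orderOf_dvd_of_pow_eq_one hwp) (orderOf_dvd_of_pow_eq_one hN1)))
  set z' : ↥A := ⟨z, hzA⟩
  have hNz : (Nm z' : L) ∈ center L := mem_center_iff.2 fun g =>
    mul_inv_eq_iff_eq_mul.1 (hperm z' hz.2 g)
  have hw : z' ^ m * (Nm z')⁻¹ = 1 := by
    refine hinj _ ?_ ?_
    · have h1 : (Nm z' : L) ∈ (T : Subgroup L) ⊓ centralizer ((T : Subgroup L) : Set L) :=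
        ⟨Cfsg.Lib.Coprime.pCore_le_sylow p T (Nm z').2.1, mem_centralizer_iff.2 fun s _ => mem_center_iff.1 hNz s⟩
      exact mul_mem (pow_mem hz _) (inv_mem h1)
    · let φ : ↥A →* ↥A := MonoidHom.mk' Nm hNmul
      show φ (z' ^ m * (Nm z')⁻¹) = 1
      rw [map_mul, map_inv, map_pow, show φ (Nm z') = (Nm z') ^ m from hNc _ hNz]
      exact mul_inv_cancel _
  have hzm : z ^ m ∈ center L := by
    rw [show z ^ m = (Nm z' : L) from congrArg Subtype.val (mul_inv_eq_one.1 hw)]
    exact hNz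
  obtain ⟨i, hi⟩ := exists_pow_eq_self_of_coprime (x := z) (n := m) (by
    obtain ⟨k, hk⟩ := IsPGroup.iff_orderOf.1 hAp z'
    rw [show orderOf z = orderOf z' from (Subgroup.orderOf_coe z').symm ▸ rfl, hk]
    exact Nat.Coprime.pow_right k ((hp.out.coprime_iff_not_dvd.2 hm).symm))
  exact hi ▸ pow_mem hzm i

/-- the heart of control of transfer at the prime three -/
theorem crit3 (hp3 : p = 3) (hL : centralizer (Cfsg.pCore p L : Set L) ≤ Cfsg.pCore p L) (T : Sylow p L)
    (D : Subgroup L) (hD : ⁅(T : Subgroup L), (T : Subgroup L)⁆ ≤ D)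
    (hM : ∀ M : Subgroup L, M ≠ ⊤ → (T : Subgroup L) ≤ M → (T : Subgroup L) ⊓ ⁅M, M⁆ ≤ D)
    (hZ : ¬ ((T : Subgroup L) ⊓ centralizer ((T : Subgroup L) : Set L)).Normal)
    (hW : ¬ (kSub p (cSub p (T : Subgroup L))).Normal) :
    Cfsg.pCore p L ⊓ commutator L ≤ D := by
  classical
  set Q := Cfsg.pCore p L with hQ
  haveI : Q.Normal := (Cfsg.Lib.Components.pCore_normal_and_isPGroup p).1
  have hQT : Q ≤ (T : Subgroup L) := Cfsg.Lib.Coprime.pCore_le_sylow p T
  set C := cSub p (T : Subgroup L) with hCdef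
  have hCn : ¬ C.Normal := fun h => hW (normalizer_eq_top_iff.1 (top_le_iff.1
    ((normalizer_eq_top_iff.2 h).ge.trans (normalizer_le_kSub C))))
  have hTC : (T : Subgroup L) ≤ normalizer (C : Set L) := Subgroup.le_normalizer.trans (normalizer_le_cSub _)
  have hTn : ¬ (T : Subgroup L).Normal := fun h => hCn (normalizer_eq_top_iff.1 (top_le_iff.1
    ((normalizer_eq_top_iff.2 h).ge.trans (normalizer_le_cSub _))))
  obtain ⟨M, hMco, hTM⟩ := (eq_top_or_exists_le_coatom (T : Subgroup L)).resolve_left fun h =>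
    hTn (h ▸ inferInstance)
  have hfixM : ∀ M : Subgroup L, M ≠ ⊤ → (T : Subgroup L) ≤ M → ∀ g ∈ M, ∀ q ∈ Q, ⁅q, g⁆ ∈ D :=
    fun M hMne hTM g hg q hq => hM M hMne hTM ⟨hQT (comm_mem hq g), commutator_mem_commutator (hTM (hQT hq)) hg⟩
  by_cases huniq : ∀ N : Subgroup L, IsCoatom N → (T : Subgroup L) ≤ N → N = M
  swap
  · push Not at huniq
    obtain ⟨N, hN, hTN, hNM⟩ := huniq
    refine Cfsg.Lib.Control.inf_commutator_le_of_central T hD hQT fun q hq g =>
      Cfsg.Lib.PushUpTransfer.comm_mem_of_closure (X := (M : Set L) ∪ N) (fun g hg =>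
        hg.elim (fun h => hfixM M hMco.1 hTM g h) (fun h => hfixM N hN.1 hTN g h)) g ?_ q hq
    have htop : closure ((M : Set L) ∪ N) = ⊤ := by
      rw [Subgroup.closure_union, closure_eq, closure_eq]
      exact hMco.2 _ (lt_of_le_of_ne le_sup_left fun e =>
        hMco.1 (hN.2 M (lt_of_le_of_ne (le_sup_right.trans e.ge) hNM)))
    exact htop ▸ mem_top g
  have hle : ∀ K : Subgroup L, (T : Subgroup L) ≤ K → K ≠ ⊤ → K ≤ M := fun K hK hK' => by
    obtain ⟨N, hN, hKN⟩ := (eq_top_or_exists_le_coatom K).resolve_left hK'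
    exact (huniq N hN (hK.trans hKN)) ▸ hKN
  have hmin : Cfsg.IsPMinimal p L := Cfsg.Lib.PMinimalComp.isPMinimal_of_one T hTn
    ⟨M, ⟨hMco, hTM⟩, fun N hN => huniq N hN.1 hN.2⟩
  set Z₀ := Cfsg.omegaOneCenter p (T : Subgroup L)
  have hTZ₀ : (T : Subgroup L) ≤ centralizer (Z₀ : Set L) := fun t ht =>
    mem_centralizer_iff.2 fun z hz => (Cfsg.Lib.PushUpTransfer.omegaCenter_comm p _ hz ht).symm
  have hnz : ¬ Z₀.Normal := fun hn => hZ (Cfsg.Lib.PushUp.normal_of_le_center (center_central hL fun z hz => by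
    have htop : centralizer (Z₀ : Set L) = ⊤ := by
      by_contra hne
      haveI := hn
      haveI : (centralizer (Z₀ : Set L)).Normal := inferInstance
      have := inf_normal hMco.1 hle _ (hle _ hTZ₀ hne)
      rw [inf_eq_left.2 hTZ₀] at this
      exact hTn this
    exact mem_center_iff.2 fun g => (mem_centralizer_iff.1 (htop ▸ mem_top g) z hz).symm))
  have hCZ₀ : centralizer (Z₀ : Set L) ≤ M := hle _ hTZ₀ fun htop => hnz (Cfsg.Lib.PushUp.normal_of_le_center
    fun z hz => mem_center_iff.2 fun g => (mem_centralizer_iff.1 (htop ▸ mem_top g) z hz).symm)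
  have hnj : ¬ (Cfsg.thompsonSubgroupOf p (T : Subgroup L)).Normal := by
    intro hJ
    haveI := hJ
    set J := Cfsg.thompsonSubgroupOf p (T : Subgroup L) with hJdef
    haveI : (centralizer (J : Set L)).Normal := inferInstance
    haveI hcT : (Cfsg.centerThompsonOf p (T : Subgroup L)).Normal :=
      inferInstanceAs (J ⊓ centralizer (J : Set L)).Normal
    set Y := yS p (T : Subgroup L)
    haveI hY : Y.Normal := by
      rw [← normalizer_eq_top_iff, eq_top_iff]
      intro g _
      rw [← Cfsg.Lib.Transfer.map_conj_eq_self_iff]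
      show (Cfsg.omegaOne p (Cfsg.centerThompsonOf p (T : Subgroup L))).map (MulAut.conj g).toMonoidHom = _
      rw [Cfsg.Lib.ZJ.map_omegaOne, Cfsg.Lib.Transfer.map_conj_eq_self_iff.2
        ((normalizer_eq_top_iff.2 hcT).ge (mem_top g))]
    have hZY : Z₀ ≤ Y := fun z hz => by
      obtain ⟨A, hA⟩ := Cfsg.Lib.Thompson.exists_isMaxElem (p := p) (T : Subgroup L)
      have h1 := Cfsg.Lib.FFModule.omegaOneCenter_mem (X := (T : Subgroup L)) hz
      have h2 : z ^ p = 1 := (Cfsg.Lib.FFModule.omegaOneCenter_elementary (p := p) (T : Subgroup L)).2 z hz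
      refine subset_closure ⟨⟨maxElem_le_thompson hA (absorb_elem hA h1.1 h2
        fun a ha => mem_centralizer_iff.1 h1.2 a (hA.1 ha)), mem_centralizer_iff.2 fun j hj =>
          mem_centralizer_iff.1 h1.2 j (Cfsg.Lib.Thompson.thompsonSubgroupOf_le _ hj)⟩, h2⟩
    haveI : (centralizer (Y : Set L)).Normal := inferInstance
    haveI hBn : (Cfsg.baumannSubgroupOf p (T : Subgroup L)).Normal :=
      inf_normal hMco.1 hle _ ((centralizer_le (SetLike.coe_subset_coe.2 hZY)).trans hCZ₀)
    exact hCn (normalizer_eq_top_iff.1 (top_le_iff.1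
      ((normalizer_eq_top_iff.2 hBn).ge.trans (normalizer_le_cOf _))))
  obtain ⟨W, iW, iF, ⟨d⟩⟩ := exists_env' hmin hL hnj hnz
  obtain ⟨H, F, iFd, iFf, c, hHT, hBH, hcS, hker, hcoreH, hQH⟩ := exists_over d hmin hL
  set B := Cfsg.baumannSubgroupOf p (T : Subgroup L) with hBdef
  have hBT : B ≤ (T : Subgroup L) := baumann_le T
  have hmapS : (c.S : Subgroup ↥H).map H.subtype = B := by rw [hcS, map_subgroupOf_eq_of_le hBH]
  set CH := (c.S : Subgroup ↥H) ⊓ centralizer (c.Zj : Set ↥H)
  have hCH : CH.map H.subtype = C := by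
    show (cOf (c.S : Subgroup ↥H)).map H.subtype = cOf B
    rw [map_cOf _ H.subtype_injective, hmapS]
  have hnormT : ∀ K : Subgroup L, H ≤ normalizer (K : Set L) → (T : Subgroup L) ≤ normalizer (K : Set L) →
      K.Normal := fun K h1 h2 => normalizer_eq_top_iff.1 (top_le_iff.1 (hHT.ge.trans (sup_le h1 h2)))
  have hZH : ¬ c.Zs ≤ center ↥H := fun hcen => hZ (Cfsg.Lib.PushUp.normal_of_le_center fun z hz => by
    have hzB : z ∈ B := ⟨hz.1, mem_centralizer_iff.2 fun y hy =>
      mem_centralizer_iff.1 hz.2 y (yS_mem hy).1⟩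
    have h1 : (⟨z, hBH hzB⟩ : ↥H) ∈ center ↥H := hcen ⟨hcS.ge (mem_subgroupOf.2 hzB),
      mem_centralizer_iff.2 fun y hy => Subtype.ext (mem_centralizer_iff.1 hz.2 (y : L)
        (hBT (mem_subgroupOf.1 (hcS.le hy))))⟩
    have h2 : H ⊔ (T : Subgroup L) ≤ centralizer ({z} : Set L) := sup_le
      (fun g hg => mem_centralizer_singleton_iff.2 (congrArg Subtype.val (mem_center_iff.1 h1 ⟨g, hg⟩)))
      (fun g hg => mem_centralizer_singleton_iff.2 (mem_centralizer_iff.1 hz.2 g hg))
    exact mem_center_iff.2 fun g => mem_centralizer_singleton_iff.1 (h2 (hHT.ge (mem_top g))))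
  have hCHn : ¬ CH.Normal := fun hn => hCn (hnormT C (fun g hg => by
    rw [← hCH]
    exact le_normalizer_map H.subtype ⟨⟨g, hg⟩, (normalizer_eq_top_iff.2 hn).ge (mem_top _), rfl⟩) hTC)
  obtain ⟨N, s, hNn, hNS, hSN, hsS, hCN⟩ := exists_sit_closure c hker hZH hCHn
  haveI := hNn
  set ι : ↥N →* L := H.subtype.comp N.subtype with hι
  have hιinj : Function.Injective ι := H.subtype_injective.comp N.subtype_injective
  have hrange : ι.range = N.map H.subtype := by rw [hι, MonoidHom.range_comp, range_subtype]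
  have hSC : s.S.map ι = C := by
    rw [hι, ← map_map, hsS, map_subgroupOf_eq_of_le hCN, hCH]
  have hgen : ι.range ⊔ (T : Subgroup L) = ⊤ := by
    refine top_le_iff.1 (hHT.ge.trans (sup_le ?_ le_sup_right))
    intro g hg
    have h1 := mem_map_of_mem H.subtype (hNS.ge (mem_top (⟨g, hg⟩ : ↥H)))
    rw [Subgroup.map_sup, hmapS, ← hrange] at h1
    exact (sup_le_sup le_rfl hBT : ι.range ⊔ B ≤ ι.range ⊔ (T : Subgroup L)) h1
  by_cases hgood : Good s
  swap
  · -- the join of the bad modules is normal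
    refine absurd ?_ hW
    have hCr : C ≤ ι.range := hSC ▸ map_le_range ι s.S
    let e : ↥s.S ≃* ↥C := (s.S.equivMapOfInjective ι hιinj).trans (MulEquiv.subgroupCongr hSC)
    let τ : ↥C →* ↥N := s.S.subtype.comp e.symm.toMonoidHom
    have hτr : s.S = τ.range := by
      rw [MonoidHom.range_comp, MonoidHom.range_eq_top.2 e.symm.surjective, ← MonoidHom.range_eq_map, range_subtype]
    have hn := kZero_normal (p := p) (S := ↥C) (s.S.subtype_injective.comp e.symm.injective) s hτr hgood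
    have he : ι.comp τ = C.subtype := MonoidHom.ext fun x => by
      show ι ((e.symm x : ↥s.S) : ↥N) = (x : L)
      conv_rhs => rw [← e.apply_symm_apply x]
      rfl
    have hK : kSub p C = ((kZero p ↥C).map τ).map ι := by rw [map_map, he]; rfl
    refine normalizer_eq_top_iff.1 (top_le_iff.1 (hgen.ge.trans (sup_le ?_ (hTC.trans (normalizer_le_kSub C)))))
    rw [hK]
    rintro _ ⟨g, rfl⟩
    exact le_normalizer_map ι ⟨g, (normalizer_eq_top_iff.2 hn).ge (mem_top _), rfl⟩
  have hQH' : ∀ x ∈ Q, x ∈ H → x ∈ B := fun x hx hxH => by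
    have h1 : (⟨x, hxH⟩ : ↥H) ∈ Cfsg.pCore p ↥H := (le_sSup ⟨inferInstance,
      (Cfsg.Lib.Components.isPGroup_pCore p).comap_subtype⟩ : Q.subgroupOf H ≤ Cfsg.pCore p ↥H) hx
    exact mem_subgroupOf.1 (hcS.le (c.core_le h1))
  obtain ⟨a, haT, haQ, hdeg⟩ := exists_degree_two ι hιinj s hgood T hSC (cSub_le _) hTC hgen
    (fun x hx => by
      obtain ⟨hxQ, y, rfl⟩ := hx
      have h1 : (y : ↥H) ∈ (c.S : Subgroup ↥H) ⊓ N :=
        ⟨hcS.ge (mem_subgroupOf.2 (hQH' _ hxQ (y : ↥H).2)), y.2⟩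
      rw [← hCH]
      exact mem_map_of_mem H.subtype (hSN.le h1))
    (fun g x hx => by
      have h1 : ⁅x, ι g⁆ ∈ H := hBH (hQH x hx _ (g : ↥H).2).2
      rw [hrange]
      refine ⟨⁅(⟨_, h1⟩ : ↥H), (g : ↥H)⁆, ?_, rfl⟩
      rw [commutatorElement_def]
      exact mul_mem (hNn.conj_mem _ g.2 _) (inv_mem g.2))
    (fun x hx g => hcoreH _ (core_le_core (mem_map_of_mem N.subtype hx)) g)
  exact Cfsg.Lib.Control.inf_commutator_le_of_degree T hD hM haT haQ fun U V hUV hUQ => by
    subst hp3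
    exact hdeg U V hUV hUQ

end Cfsg.Lib.PushUpFocal
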