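import Cfsg.Agent.PushUpFocal.Quad

/-!
One situation and the conjugation by a Sylow subgroup give an element of degree two on the chief factors
of `O_p`.
-/

set_option autoImplicit false
set_option linter.unusedSectionVars false
set_option linter.style.haveILetI false

namespace Cfsg.Lib.PushUpFocal

open Subgroup Cfsg.Lib.BGN Cfsg.Lib.BGN.P
open Cfsg.Lib.Fusion (maxAb)
open scoped commutatorElement

universe u

variable {p : ℕ} [hp : Fact p.Prime] {L : Type u} [Group L] [Finite L]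

omit hp [Finite L] in
theorem conj_comm (t x y : L) : t * ⁅x, y⁆ * t⁻¹ = ⁅t * x * t⁻¹, t * y * t⁻¹⁆ := by
  simp only [commutatorElement_def]; group

theorem maxAb_conj_mem {T C A : Subgroup L} (hTC : T ≤ normalizer (C : Set L)) (hA : A ∈ maxAb C) {t : L}
    (ht : t ∈ T) : A.map (MulAut.conj t).toMonoidHom ∈ maxAb C := by
  have h := Cfsg.Lib.ZJ.map_maxAb_injOn (f := (MulAut.conj t).toMonoidHom) (MulAut.conj t).injective.injOn hA
  rwa [Cfsg.Lib.Transfer.map_conj_eq_self_iff.2 (hTC ht)] at h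

/-- one element of degree two -/
theorem exists_degree_two {N : Type u} [Group N] [Finite N] {F : Type} [Field F] [Fintype F] (ι : N →* L)
    (hι : Function.Injective ι) (d : Sit p N F) (hgood : Good d) (T : Sylow p L) {C : Subgroup L}
    (hC : d.S.map ι = C) (hCT : C ≤ (T : Subgroup L)) (hTC : (T : Subgroup L) ≤ normalizer (C : Set L))
    (hgen : ι.range ⊔ (T : Subgroup L) = ⊤) (hQC : Cfsg.pCore p L ⊓ ι.range ≤ C)
    (hstep : ∀ g : N, ∀ x ∈ Cfsg.pCore p L, ⁅⁅x, ι g⁆, ι g⁆ ∈ ι.range)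
    (hcore : ∀ x ∈ Cfsg.pCore p N, ∀ g : N, ι ⁅x, g⁆ ∈ Cfsg.pCore p L) :
    ∃ a ∈ (T : Subgroup L), a ∉ Cfsg.pCore p L ∧ ∀ U V : Subgroup L, Cfsg.IsChiefFactor U V →
      U ≤ Cfsg.pCore p L → Cfsg.iterCommutator U (zpowers a) 2 ≤ V := by
  classical
  haveI := d.c.core_normal
  haveI := d.W_normal
  set Q := Cfsg.pCore p L with hQdef
  haveI hQn : Q.Normal := (Cfsg.Lib.Components.pCore_normal_and_isPGroup p).1
  have hQT : Q ≤ (T : Subgroup L) := Cfsg.Lib.Coprime.pCore_le_sylow p T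
  have hCr : C ≤ ι.range := hC ▸ map_le_range ι d.S
  set Q1 := Q ⊓ C with hQ1
  have hQ1e : Q1 = Q ⊓ ι.range := le_antisymm (inf_le_inf_left _ hCr) (le_inf inf_le_left hQC)
  have hnorm : ∀ K : Subgroup L, (T : Subgroup L) ≤ normalizer (K : Set L) →
      ι.range ≤ normalizer (K : Set L) → K.Normal := fun K h1 h2 =>
    normalizer_eq_top_iff.1 (top_le_iff.1 (hgen.ge.trans (sup_le h2 h1)))
  haveI hQ1n : Q1.Normal := hnorm _
    (Cfsg.Lib.Coprime.le_normalizer_inf (le_top.trans (normalizer_eq_top (H := Q)).ge) hTC)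
    (hQ1e ▸ Cfsg.Lib.Coprime.le_normalizer_inf (le_top.trans (normalizer_eq_top (H := Q)).ge) le_normalizer)
  have hQ1core : ∀ {g : N}, ι g ∈ Q → g ∈ Cfsg.pCore p N := fun {g} hg => by
    haveI : (Q.comap ι).Normal := hQn.comap ι
    exact Cfsg.Lib.Components.le_pCore ((Cfsg.Lib.Components.isPGroup_pCore p).comap_of_injective ι hι)
      (show g ∈ Q.comap ι from hg)
  -- elements lying in all conjugates of the core
  set R₀ := (Cfsg.pCore p N).map ι with hR₀
  have hR₀C : R₀ ≤ C := hC ▸ map_mono d.c.core_le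
  have hR : ∀ x, (∀ t ∈ (T : Subgroup L), t * x * t⁻¹ ∈ R₀) → x ∈ Q := by
    intro x hx
    let R : Subgroup L := ⨅ t ∈ (T : Subgroup L), R₀.comap (MulAut.conj t).toMonoidHom
    have hmemR : ∀ {y}, y ∈ R ↔ ∀ t ∈ (T : Subgroup L), t * y * t⁻¹ ∈ R₀ := fun {y} => by
      simp only [R, mem_iInf, mem_comap, MulEquiv.coe_toMonoidHom, MulAut.conj_apply]
    have hRR₀ : R ≤ R₀ := fun y hy => by simpa using hmemR.1 hy 1 (one_mem _)
    have hn : (R ⊔ Q1).Normal := by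
      refine hnorm _ (le_trans (le_inf ?_ (le_top.trans (normalizer_eq_top (H := Q1)).ge))
        (normalizer_inf_normalizer_le_normalizer_sup _ _)) ?_
      · refine Cfsg.Lib.PushUp.le_normalizer_of_maps fun s hs y hy => hmemR.2 fun t ht => ?_
        rw [show t * (s * y * s⁻¹) * t⁻¹ = (t * s) * y * (t * s)⁻¹ by group]
        exact hmemR.1 hy _ (mul_mem ht hs)
      · refine Cfsg.Lib.PushUp.le_normalizer_of_maps ?_
        rintro _ ⟨g, rfl⟩ z hz
        obtain ⟨y, hy, q, hq, rfl⟩ := mem_sup_of_normal_right.1 hz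
        obtain ⟨y', hy', rfl⟩ := hRR₀ hy
        have h1 : ι ⁅y', g⁆ ∈ Q1 := hQ1e ▸ ⟨hcore y' hy' g, ⟨_, rfl⟩⟩
        rw [show ι g * (ι y' * q) * (ι g)⁻¹ = (ι ⁅y', g⁆)⁻¹ * ι y' * (ι g * q * (ι g)⁻¹) by
          simp only [commutatorElement_def, map_mul, map_inv]; group]
        exact mul_mem (mul_mem (mem_sup_right (inv_mem h1)) (mem_sup_left hy))
          (mem_sup_right (hQ1n.conj_mem q hq _))
    exact (le_sSup ⟨hn, T.2.to_le (sup_le ((hRR₀.trans hR₀C).trans hCT) (inf_le_right.trans hCT))⟩ :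
      R ⊔ Q1 ≤ Q) (mem_sup_left (hmemR.2 hx))
  -- the centre of `Q ∩ C`
  set V1 := Q1 ⊓ centralizer (Q1 : Set L) with hV1
  haveI : (centralizer (Q1 : Set L)).Normal := inferInstance
  haveI hV1n : V1.Normal := inferInstanceAs (Q1 ⊓ centralizer (Q1 : Set L)).Normal
  have hzQ : ∀ z ∈ d.c.Zs, ι z ∈ Q := by
    intro z hz
    have hzcent : ι z ∈ centralizer (C : Set L) := by
      rw [← hC]
      refine mem_centralizer_iff.2 ?_
      rintro _ ⟨y, hy, rfl⟩
      rw [← map_mul, ← map_mul, mem_centralizer_iff.1 (mem_inf.1 hz).2 y hy]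
    refine hR _ fun t ht => ?_
    have hci : ∀ y ∈ C, t⁻¹ * y * t ∈ C := fun y hy => by
      simpa using (mem_normalizer_iff.1 (hTC (inv_mem ht)) y).1 hy
    obtain ⟨z', hz', he⟩ : t * ι z * t⁻¹ ∈ d.S.map ι :=
      hC ▸ (mem_normalizer_iff.1 (hTC ht) _).1 (hC ▸ mem_map_of_mem ι hz.1)
    refine ⟨z', d.c.Zs_le_core ⟨hz', mem_centralizer_iff.2 fun y hy => hι ?_⟩, he⟩
    rw [map_mul, map_mul, he]
    have h1 := mem_centralizer_iff.1 hzcent _ (hci _ (hC ▸ mem_map_of_mem ι hy : ι y ∈ C))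
    calc ι y * (t * ι z * t⁻¹) = t * (t⁻¹ * ι y * t * ι z) * t⁻¹ := by group
      _ = t * (ι z * (t⁻¹ * ι y * t)) * t⁻¹ := by rw [h1]
      _ = _ := by group
  have hWV : d.W ≤ V1.comap ι := by
    refine le_trans (fun w hw => hw.1) (normalClosure_le_normal (N := V1.comap ι) ?_)
    intro z hz
    have hzC : ι z ∈ C := hC ▸ mem_map_of_mem ι hz.1
    have hzcent : ι z ∈ centralizer (C : Set L) := by
      rw [← hC]
      refine mem_centralizer_iff.2 ?_
      rintro _ ⟨y, hy, rfl⟩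
      rw [← map_mul, ← map_mul, mem_centralizer_iff.1 (mem_inf.1 hz).2 y hy]
    exact ⟨⟨hzQ z hz, hzC⟩, centralizer_le (SetLike.coe_subset_coe.2 inf_le_right) hzcent⟩
  -- the element
  set π := QuotientGroup.mk' Q
  set As := {A : Subgroup L | A ∈ maxAb C ∧ ¬ A ≤ Q} with hAs
  obtain ⟨A₀, hA₀⟩ : As.Nonempty := by
    obtain ⟨A, hA⟩ := d.exists_case
    refine ⟨A.map ι, hC ▸ (Cfsg.Lib.PushUp.Char.map_mem_maxAb hι).2 hA.hA, fun hle => hA.hAQ fun a ha => ?_⟩
    exact hQ1core (hle (mem_map_of_mem ι ha))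
  obtain ⟨A, ⟨hA, hAQ⟩, hAmin⟩ := Set.exists_min_image As (fun A => Nat.card (A.map π)) (Set.toFinite _)
    ⟨A₀, hA₀⟩
  obtain ⟨a₀, ha₀, ha₀Q⟩ := SetLike.not_le_iff_exists.1 hAQ
  obtain ⟨t, ht, htR⟩ : ∃ t ∈ (T : Subgroup L), t * a₀ * t⁻¹ ∉ R₀ := by
    by_contra hcon
    push Not at hcon
    exact ha₀Q (hR a₀ hcon)
  set A₁ := A.map (MulAut.conj t).toMonoidHom with hA₁def
  have hA₁ : A₁ ∈ maxAb C := maxAb_conj_mem hTC hA ht
  have hcardπ : Nat.card (A₁.map π) = Nat.card (A.map π) := by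
    rw [hA₁def, map_map, show π.comp (MulAut.conj t).toMonoidHom =
      (MulAut.conj (π t)).toMonoidHom.comp π from MonoidHom.ext fun y => by simp, ← map_map,
      card_map_of_injective (MulAut.conj (π t)).injective]
  have hA₁r : A₁ ≤ ι.range := hA₁.1.trans hCr
  set B := A₁.comap ι with hBdef
  have eB : B.map ι = A₁ := map_comap_eq_self hA₁r
  have hB : B ∈ maxAb d.S := (Cfsg.Lib.PushUp.Char.map_mem_maxAb hι).1 (by rw [eB, hC]; exact hA₁)
  obtain ⟨b, hbe⟩ := hA₁r (mem_map_of_mem (MulAut.conj t).toMonoidHom ha₀)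
  have hbB : b ∈ B := by
    show ι b ∈ A₁
    rw [hbe]; exact mem_map_of_mem _ ha₀
  have hbQ : b ∉ Cfsg.pCore p N := fun h => htR ⟨b, h, hbe.trans rfl⟩
  obtain ⟨A', hA'⟩ := d.exists_case
  have hcase : d.c.Case B := ⟨hB, fun hle => hbQ (hle hbB), hA'.hCV⟩
  set B' := (B ⊓ Cfsg.pCore p N) ⊔ d.c.Vc
  have hVc : d.c.Vc.map ι ≤ Q := by
    rw [map_le_iff_le_comap]
    haveI : (Q.comap ι).Normal := hQn.comap ι
    exact normalClosure_le_normal fun z hz => hzQ z hz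
  have hBQ : (B ⊓ Cfsg.pCore p N).map ι ≤ Q := by
    by_contra hne
    have hmem : B'.map ι ∈ As := ⟨hC ▸ (Cfsg.Lib.PushUp.Char.map_mem_maxAb hι).2 hcase.main.2.2.2.2.2,
      fun hle => hne ((map_mono le_sup_left).trans hle)⟩
    have hle : (B'.map ι).map π ≤ ((B ⊓ Cfsg.pCore p N).map ι).map π := by
      rw [Subgroup.map_sup, Subgroup.map_sup]
      exact sup_le le_rfl (((map_mono hVc).trans (QuotientGroup.map_mk'_self Q).le).trans bot_le)
    have heq : ((B ⊓ Cfsg.pCore p N).map ι).map π = A₁.map π := by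
      refine Subgroup.eq_of_le_of_card_ge (eB ▸ map_mono (map_mono inf_le_left)) ?_
      rw [hcardπ]
      exact (hAmin _ hmem).trans (Nat.card_mono (Set.toFinite _) hle)
    obtain ⟨_, ⟨y, hy, rfl⟩, hye⟩ := heq.ge (mem_map_of_mem π (show ι b ∈ A₁ from hbB))
    have h1 : ι (y⁻¹ * b) ∈ Q := by
      rw [map_mul, map_inv, ← QuotientGroup.eq_one_iff]
      show π ((ι y)⁻¹ * ι b) = 1
      rw [map_mul, map_inv, hye, inv_mul_cancel]
    exact hbQ (by simpa using mul_mem hy.2 (hQ1core h1))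
  set a := ι b with hadef
  have haC : a ∈ C := hA₁.1 hbB
  have hquad : ∀ v ∈ V1, ⁅⁅v, a⁆, a⁆ = 1 := by
    intro v hv
    obtain ⟨x, rfl⟩ := hCr hv.1.2
    rw [← map_commutatorElement, ← map_commutatorElement, quad d hB (V := V1.comap ι) ?_ ?_ hWV ?_ hbB hbQ hv, map_one]
    · exact ⟨⟨fun x y => Subtype.ext (hι (by
        rw [Subgroup.coe_mul, Subgroup.coe_mul, map_mul, map_mul]
        exact mem_centralizer_iff.1 (y.2 : ι (y : N) ∈ V1).2 _ (x.2 : ι (x : N) ∈ V1).1))⟩⟩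
    · intro x hx
      exact (mem_map_iff_mem hι).1 (hC.ge (hx : ι x ∈ V1).1.2)
    · intro y hy x hx
      refine hι ?_
      rw [map_mul, map_mul]
      exact mem_centralizer_iff.1 (hx : ι x ∈ V1).2 _ ⟨hBQ (mem_map_of_mem ι hy), hC ▸ mem_map_of_mem ι (hB.1 hy.1)⟩
  refine ⟨a, hCT haC, fun h => hbQ (hQ1core h), fun U V hUV hUQ => ?_⟩
  obtain ⟨hlt, hUn, hVn, hmin⟩ := hUV
  haveI := hUn
  haveI := hVn
  set q := QuotientGroup.mk' V
  have hq1 : ∀ {y}, q y = 1 ↔ y ∈ V := fun {y} => QuotientGroup.eq_one_iff y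
  have hUT : U ≤ (T : Subgroup L) := hUQ.trans hQT
  have hUp : IsPGroup p U := T.2.to_le hUT
  have hab : ∀ x ∈ U, ∀ y ∈ U, Commute (q x) (q y) := by
    intro x hx y hy
    rw [← commutatorElement_eq_one_iff_commute, ← map_commutatorElement, hq1]
    have hle : ⁅U, U⁆ ≤ U := commutator_le_left _ _
    rcases hmin (⁅U, U⁆ ⊔ V) inferInstance le_sup_right (sup_le hle hlt.le) with e | e
    · exact e.le (mem_sup_left (commutator_mem_commutator hx hy))
    · exact absurd (le_of_le_comm T.2 hUT (e.ge.trans (sup_le_sup (commutator_mono le_rfl hUT) le_rfl))) hlt.not_ge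
  suffices key : ∀ u ∈ U, ⁅⁅u, a⁆, a⁆ ∈ V by
    let R1 : Subgroup L :=
      { carrier := {z | z ∈ U ∧ ⁅z, a⁆ ∈ V}
        one_mem' := ⟨one_mem _, by simp⟩
        mul_mem' := fun {x y} hx hy => ⟨mul_mem hx.1 hy.1, by
          rw [show ⁅x * y, a⁆ = x * ⁅y, a⁆ * x⁻¹ * ⁅x, a⁆ by simp only [commutatorElement_def]; group]
          exact mul_mem (hVn.conj_mem _ hy.2 x) hx.2⟩
        inv_mem' := fun {x} hx => ⟨inv_mem hx.1, by
          rw [show ⁅x⁻¹, a⁆ = x⁻¹ * ⁅x, a⁆⁻¹ * x⁻¹⁻¹ by simp only [commutatorElement_def]; group]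
          exact hVn.conj_mem _ (inv_mem hx.2) x⁻¹⟩ }
    have hR1a : ∀ g ∈ zpowers a, ∀ z ∈ R1, g * z * g⁻¹ ∈ R1 := by
      rintro _ ⟨i, rfl⟩ z hz
      refine ⟨hUn.conj_mem z hz.1 _, ?_⟩
      rw [show ⁅a ^ i * z * (a ^ i)⁻¹, a⁆ = a ^ i * ⁅z, a⁆ * (a ^ i)⁻¹ by
        simp only [commutatorElement_def]; group]
      exact hVn.conj_mem _ hz.2 _
    let R2 : Subgroup L :=
      { carrier := {g | g ∈ zpowers a ∧ ∀ u ∈ U, ⁅u, g⁆ ∈ R1}
        one_mem' := ⟨one_mem _, fun u _ => by rw [commutatorElement_one_right]; exact one_mem _⟩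
        mul_mem' := fun {x y} hx hy => ⟨mul_mem hx.1 hy.1, fun u hu => by
          rw [show ⁅u, x * y⁆ = ⁅u, x⁆ * (x * ⁅u, y⁆ * x⁻¹) by simp only [commutatorElement_def]; group]
          exact mul_mem (hx.2 u hu) (hR1a x hx.1 _ (hy.2 u hu))⟩
        inv_mem' := fun {x} hx => ⟨inv_mem hx.1, fun u hu => by
          rw [show ⁅u, x⁻¹⁆ = x⁻¹ * ⁅u, x⁆⁻¹ * x⁻¹⁻¹ by simp only [commutatorElement_def]; group]
          exact hR1a _ (inv_mem hx.1) _ (inv_mem (hx.2 u hu))⟩ }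
    have hR2 : zpowers a ≤ R2 := zpowers_le.2 ⟨mem_zpowers a, fun u hu => ⟨by
      rw [show ⁅u, a⁆ = u * (a * u⁻¹ * a⁻¹) by simp only [commutatorElement_def]; group]
      exact mul_mem hu (hUn.conj_mem _ (inv_mem hu) a), key u hu⟩⟩
    show ⁅⁅U, zpowers a⁆, zpowers a⁆ ≤ V
    refine (commutator_mono (commutator_le.2 fun u hu g hg => (hR2 hg).2 u hu : ⁅U, zpowers a⁆ ≤ R1) le_rfl).trans
      (commutator_le.2 ?_)
    rintro z hz _ ⟨i, rfl⟩
    rw [← hq1, map_commutatorElement, commutatorElement_eq_one_iff_commute, map_zpow]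
    refine (commutatorElement_eq_one_iff_commute.1 ?_).zpow_right i
    rw [← map_commutatorElement, hq1]
    exact hz.2
  haveI : (U ⊓ V1).Normal := inferInstance
  rcases hmin ((U ⊓ V1) ⊔ V) inferInstance le_sup_right (sup_le inf_le_left hlt.le) with e | e
  swap
  · intro u hu
    obtain ⟨v, hv, n, hn, rfl⟩ := mem_sup_of_normal_right.1 (e.ge hu)
    rw [← hq1, map_commutatorElement, map_commutatorElement, map_mul, hq1.2 hn, mul_one, ← map_commutatorElement,
      ← map_commutatorElement, hquad v hv.2, map_one]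
  have hUV1 : U ⊓ V1 ≤ V := le_sup_left.trans e.le
  -- the generators
  let X : Set L := {g | (orderOf g).Coprime p ∧ ∃ t ∈ (T : Subgroup L), t * g * t⁻¹ ∈ ι.range}
  have hXT : ∀ s ∈ (T : Subgroup L), ∀ g ∈ X, s * g * s⁻¹ ∈ X := by
    rintro s hs g ⟨hg, t, ht, hgt⟩
    refine ⟨?_, t * s⁻¹, mul_mem ht (inv_mem hs), ?_⟩
    · rw [← MulAut.conj_apply, MulEquiv.orderOf_eq]
      exact hg
    · rwa [show t * s⁻¹ * (s * g * s⁻¹) * (t * s⁻¹)⁻¹ = t * g * t⁻¹ by group]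
  have hXn : ∀ K : Subgroup L, (T : Subgroup L) ≤ normalizer (K : Set L) →
      (∀ g ∈ X, ∀ k ∈ K, g * k * g⁻¹ ∈ K) → K.Normal := by
    intro K hTK hXK
    refine hnorm K hTK ?_
    have hcl : closure X ≤ normalizer (K : Set L) := (closure_le _).2 fun g hg => by
      rw [SetLike.mem_coe, mem_normalizer_iff]
      refine fun k => ⟨hXK g hg k, fun hk => ?_⟩
      simpa [mul_assoc] using hXK g⁻¹ ⟨by rw [orderOf_inv]; exact hg.1, by
        obtain ⟨t, ht, h⟩ := hg.2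
        exact ⟨t, ht, by rw [show t * g⁻¹ * t⁻¹ = (t * g * t⁻¹)⁻¹ by group]; exact inv_mem h⟩⟩ _ hk
    rw [MonoidHom.range_eq_map, ← Cfsg.Lib.Transfer.pResidual_sup_sylow d.c.S, Subgroup.map_sup]
    refine sup_le ?_ ((hC.le.trans hCT).trans hTK)
    rw [Cfsg.pResidual, MonoidHom.map_closure, closure_le]
    rintro _ ⟨g, hg, rfl⟩
    exact hcl (subset_closure ⟨by rw [orderOf_injective ι hι]; exact hg, 1, one_mem _, by simp⟩)
  have hcen : (∀ g ∈ X, ∀ u ∈ U, ⁅u, g⁆ ∈ V) → ∀ u ∈ U, ⁅⁅u, a⁆, a⁆ ∈ V := by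
    intro h u hu
    set K := ⁅U, (T : Subgroup L)⁆ ⊔ V
    have hKU : K ≤ U := sup_le (commutator_le_left _ _) hlt.le
    haveI : K.Normal := hXn K (le_trans (le_inf (Cfsg.Lib.PushUp.le_normalizer_comm
      (le_top.trans (normalizer_eq_top (H := U)).ge) Subgroup.le_normalizer)
      (le_top.trans (normalizer_eq_top (H := V)).ge)) (normalizer_inf_normalizer_le_normalizer_sup _ _))
      fun g hg k hk => by
        rw [show g * k * g⁻¹ = ⁅k, g⁆⁻¹ * k by simp only [commutatorElement_def]; group]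
        exact mul_mem (inv_mem (mem_sup_right (h g hg k (hKU hk)))) hk
    rcases hmin K inferInstance le_sup_right hKU with eK | eK
    · rw [← hq1, map_commutatorElement, hq1.2 (eK.le (mem_sup_left (commutator_mem_commutator hu (hCT haC)))),
        commutatorElement_one_left]
    · exact absurd (le_of_le_comm T.2 hUT eK.ge) hlt.not_ge
  haveI : (U ⊓ Q1).Normal := inferInstance
  rcases hmin ((U ⊓ Q1) ⊔ V) inferInstance le_sup_right (sup_le inf_le_left hlt.le) with e1 | e1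
  · -- the coprime elements fix the factor
    refine hcen ?_
    rintro g ⟨hg, t, ht, g', hg'⟩ u hu
    set u' := t * u * t⁻¹
    have hu' : u' ∈ U := hUn.conj_mem u hu t
    have h1 : ∀ w ∈ U, ⁅⁅w, ι g'⁆, ι g'⁆ ∈ V := fun w hw => e1.le (mem_sup_left ⟨comm_mem (comm_mem hw _) _,
      hQ1e ▸ ⟨hUQ (comm_mem (comm_mem hw _) _), hstep g' w (hUQ hw)⟩⟩)
    have hg'o : (orderOf (q (ι g'))).Coprime p := by
      refine hg.coprime_dvd_left ((orderOf_map_dvd q _).trans ?_)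
      rw [hg', ← MulAut.conj_apply, MulEquiv.orderOf_eq]
    have hcU : ⁅ι g', u'⁆ ∈ U := by rw [← commutatorElement_inv]; exact inv_mem (comm_mem hu' _)
    have hc1 : q ⁅ι g', u'⁆ = 1 := by
      obtain ⟨k, hk⟩ := hUp ⟨_, hcU⟩
      refine coprime_fix (x := q u') hg'o ?_ ?_ ⟨k, by
        rw [← map_pow, show ⁅ι g', u'⁆ ^ p ^ k = 1 from congrArg Subtype.val hk, map_one]⟩
      · rw [map_commutatorElement, commutatorElement_def]; group
      · rw [← commutatorElement_eq_one_iff_mul_comm, ← map_commutatorElement, ← commutatorElement_inv, map_inv,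
          inv_eq_one, hq1]
        have := h1 u' hu'
        rw [← commutatorElement_inv (ι g') u'] at this
        rw [← hq1, map_commutatorElement, map_inv] at this
        rw [← hq1, map_commutatorElement]
        rw [commutatorElement_eq_one_iff_commute] at this ⊢
        exact Commute.inv_left_iff.1 this
    have h2 : ⁅u', ι g'⁆ ∈ V := by
      rw [← commutatorElement_inv]; exact inv_mem (hq1.1 hc1)
    have h3 := hVn.conj_mem _ h2 t⁻¹
    rwa [conj_comm, hg', show t⁻¹ * u' * t⁻¹⁻¹ = u by simp only [u']; group,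
      show t⁻¹ * (t * g * t⁻¹) * t⁻¹⁻¹ = g by group] at h3
  -- generated by commutators
  set U' := closure {z | ∃ y ∈ U ⊓ Q1, ∃ g ∈ X, z = ⁅y, g⁆} ⊔ V with hU'
  have hU'U : U' ≤ U := sup_le ((closure_le _).2 (by
    rintro _ ⟨y, hy, g, -, rfl⟩; exact comm_mem hy.1 g)) hlt.le
  haveI hU'n : U'.Normal := by
    refine hXn U' (le_trans (le_inf ?_ (le_top.trans (normalizer_eq_top (H := V)).ge))
      (normalizer_inf_normalizer_le_normalizer_sup _ _)) fun g hg z hz => ?_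
    · refine Cfsg.Lib.PushUp.le_normalizer_of_maps fun s hs z hz => ?_
      have := mem_map_of_mem (MulAut.conj s).toMonoidHom hz
      rw [MonoidHom.map_closure] at this
      refine closure_mono ?_ this
      rintro _ ⟨_, ⟨y, hy, g, hg, rfl⟩, rfl⟩
      exact ⟨s * y * s⁻¹, (inferInstance : (U ⊓ Q1).Normal).conj_mem y hy s, s * g * s⁻¹, hXT s hs g hg,
        conj_comm s y g⟩
    · obtain ⟨y, hy, v, hv, hyv⟩ := mem_sup_of_normal_right.1 (e1.ge (hU'U hz))
      have h1 : ⁅z, g⁆ ∈ U' := by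
        rw [← hyv, show ⁅y * v, g⁆ = y * ⁅v, g⁆ * y⁻¹ * ⁅y, g⁆ by simp only [commutatorElement_def]; group]
        exact mul_mem (mem_sup_right (hVn.conj_mem _ (comm_mem hv g) y))
          (mem_sup_left (subset_closure ⟨y, hy, g, hg, rfl⟩))
      rw [show g * z * g⁻¹ = ⁅z, g⁆⁻¹ * z by simp only [commutatorElement_def]; group]
      exact mul_mem (inv_mem h1) hz
  rcases hmin U' hU'n le_sup_right hU'U with e2 | e2
  · refine hcen fun g hg u hu => ?_
    obtain ⟨y, hy, v, hv, rfl⟩ := mem_sup_of_normal_right.1 (e1.ge hu)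
    rw [show ⁅y * v, g⁆ = y * ⁅v, g⁆ * y⁻¹ * ⁅y, g⁆ by simp only [commutatorElement_def]; group]
    exact mul_mem (hVn.conj_mem _ (comm_mem hv g) y)
      (e2.le (mem_sup_left (subset_closure ⟨y, hy, g, hg, rfl⟩)))
  -- the square vanishes on the generators
  let R : Subgroup L :=
    { carrier := {z | z ∈ U ∧ ⁅⁅z, a⁆, a⁆ ∈ V}
      one_mem' := ⟨one_mem _, by simp⟩
      mul_mem' := fun {x y} hx hy => ⟨mul_mem hx.1 hy.1, by
        have hxa : ⁅x, a⁆ ∈ U := comm_mem hx.1 a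
        have hya : ⁅y, a⁆ ∈ U := comm_mem hy.1 a
        have h1 : q ⁅x * y, a⁆ = q (⁅y, a⁆ * ⁅x, a⁆) := by
          rw [show ⁅x * y, a⁆ = x * ⁅y, a⁆ * x⁻¹ * ⁅x, a⁆ by simp only [commutatorElement_def]; group]
          simp only [map_mul, map_inv]
          rw [(hab x hx.1 _ hya).eq, mul_inv_cancel_right]
        have hx1 := hq1.2 hx.2
        have hy1 := hq1.2 hy.2
        rw [map_commutatorElement, commutatorElement_eq_one_iff_commute] at hx1 hy1
        rw [← hq1, map_commutatorElement, h1, map_mul, commutatorElement_eq_one_iff_commute]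
        exact hy1.mul_left hx1⟩
      inv_mem' := fun {x} hx => ⟨inv_mem hx.1, by
        have hxa : ⁅x, a⁆ ∈ U := comm_mem hx.1 a
        have h1 : q ⁅x⁻¹, a⁆ = (q ⁅x, a⁆)⁻¹ := by
          rw [show ⁅x⁻¹, a⁆ = x⁻¹ * ⁅x, a⁆⁻¹ * x by simp only [commutatorElement_def]; group]
          simp only [map_mul, map_inv]
          rw [((hab x hx.1 _ hxa).inv_inv).eq, inv_mul_cancel_right]
        have hx1 := hq1.2 hx.2
        rw [map_commutatorElement, commutatorElement_eq_one_iff_commute] at hx1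
        rw [← hq1, map_commutatorElement, h1, commutatorElement_eq_one_iff_commute]
        exact hx1.inv_left⟩ }
  have hle : U' ≤ R := by
    refine sup_le ((closure_le _).2 ?_) fun v hv => ⟨hlt.le hv, comm_mem (comm_mem hv a) a⟩
    rintro _ ⟨y, hy, g, ⟨hg, t, ht, g', hg'⟩, rfl⟩
    refine ⟨comm_mem hy.1 g, ?_⟩
    have hy' : t * y * t⁻¹ ∈ U ⊓ Q1 := (inferInstance : (U ⊓ Q1).Normal).conj_mem y hy t
    obtain ⟨y', hy'e⟩ := hCr hy'.2.2
    obtain ⟨a', ha', ha'e⟩ : t * a * t⁻¹ ∈ d.S.map ι := hC ▸ (mem_normalizer_iff.1 (hTC ht) _).1 haC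
    have hg'o : (orderOf g').Coprime p := by
      rw [← orderOf_injective ι hι, hg', ← MulAut.conj_apply,
        MulEquiv.orderOf_eq]
      exact hg
    have h1 : ι ⁅⁅⁅y', g'⁆, a'⁆, a'⁆ ∈ V1 := hWV (hgood g' hg'o y' (hQ1core (hy'e ▸ hy'.2.1)) a' ha')
    rw [map_commutatorElement, map_commutatorElement, map_commutatorElement, hy'e, hg', ha'e, ← conj_comm,
      ← conj_comm, ← conj_comm] at h1
    have h2 := hV1n.conj_mem _ h1 t⁻¹
    rw [show t⁻¹ * (t * ⁅⁅⁅y, g⁆, a⁆, a⁆ * t⁻¹) * t⁻¹⁻¹ = ⁅⁅⁅y, g⁆, a⁆, a⁆ by group] at h2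
    exact hUV1 ⟨comm_mem (comm_mem (comm_mem hy.1 g) a) a, h2⟩
  exact fun u hu => (hle (e2.ge hu)).2

end Cfsg.Lib.PushUpFocal
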