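import Cfsg.Agent.PushUp.Char.Top

/-!
The join of the modules of the bad pushing-up situations over a given group.
-/

set_option autoImplicit false
set_option linter.unusedSectionVars false
set_option linter.style.haveILetI false

namespace Cfsg.Lib.PushUpFocal

open Subgroup Cfsg.Lib.BGN Cfsg.Lib.BGN.P
open Cfsg.Lib.PushUp.Char
open scoped commutatorElement

universe u v w

variable {p : ℕ} [hp : Fact p.Prime]

/-- a coprime element followed by two elements of the Sylow subgroup maps the core into the module -/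
def Good {G : Type u} [Group G] [Finite G] {F : Type v} [Field F] [Fintype F] (d : Sit p G F) : Prop :=
  ∀ g : G, (orderOf g).Coprime p → ∀ x ∈ Cfsg.pCore p G, ∀ a ∈ d.S, ⁅⁅⁅x, g⁆, a⁆, a⁆ ∈ d.W

theorem comm_mem {G : Type u} [Group G] {N : Subgroup G} [hN : N.Normal] {x : G} (hx : x ∈ N) (g : G) :
    ⁅x, g⁆ ∈ N := by
  rw [show ⁅x, g⁆ = x * (g * x⁻¹ * g⁻¹) by simp only [commutatorElement_def]; group]
  exact mul_mem hx (hN.conj_mem _ (inv_mem hx) g)

section

variable {H P : Type u} [Group H] [Finite H] [Group P] [Finite P] {F : Type v} [Field F] [Fintype F]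
  (d : Sit p H F) {π : H →* P} (hπ : Function.Injective π) (D : Pair P p) {t : Bool}
  (hS : d.S.map π = D.S) (hX : D.X t = (⊤ : Subgroup H).map π) (hQ : D.Q t = (Cfsg.pCore p H).map π)
  (hV : D.V t = d.W.map π)

include d hπ hS hX hQ hV

theorem good_of_one (h : D.One t) : Good d := by
  obtain ⟨A, M, hAQ, hab, hAp, hVM, hMQ, hXM, h1, h2⟩ := h
  rw [hQ] at hMQ h2
  rw [hX] at hXM h1 h2
  rw [hV] at hVM h1
  haveI := comap_normal hπ hXM
  haveI := d.c.core_normal
  haveI := d.W_normal
  have hT : Triv p d.W (Cfsg.pCore p H) :=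
    Triv.trans (N₂ := M.comap π) ((Cfsg.Lib.Components.pCore_normal_and_isPGroup p).2.to_le fun x hx =>
      (mem_map_iff_mem hπ).1 (hMQ hx)) (fun g hg x hx => (mem_map_iff_mem hπ).1 (by
      rw [map_commutatorElement]
      exact h1 _ (mem_map_of_mem π (mem_top g)) (by rwa [orderOf_injective π hπ]) _ hx)) fun g hg x hx => by
      show π ⁅x, g⁆ ∈ M
      rw [map_commutatorElement]
      exact h2 _ (mem_map_of_mem π (mem_top g)) (by rwa [orderOf_injective π hπ]) _ (mem_map_of_mem π hx)
  exact fun g hg x hx a _ => comm_mem (comm_mem (hT g hg x hx) a) a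

theorem good_of_two (h : D.DistTwo) : Good d := by
  obtain ⟨y, x, hy, hx, f, -⟩ := D.dist_two h t
  haveI := d.c.core_normal
  haveI := d.W_normal
  have hSr : D.S ≤ (⊤ : Subgroup H).map π := hS.ge.trans (map_mono le_top)
  haveI : ((D.fD t y).comap π).Normal := comap_normal hπ (hX ▸ f.DX)
  haveI : ((D.fW t y).comap π).Normal := comap_normal hπ (hX ▸ f.WX)
  have hA2S : cj x (D.V t) ≤ D.S := le_sup_left.trans f.A2S.le
  have eA := map_comap_self hπ (hA2S.trans hSr)
  have hA2le : (cj x (D.V t)).comap π ≤ d.S := fun a ha => (mem_map_iff_mem hπ).1 (hS.ge (hA2S ha))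
  have hnot : ¬ (cj x (D.V t)).comap π ≤ Cfsg.pCore p H := fun hle => by
    have h2 : D.S ≤ D.Q t := by
      rw [← f.A2S, ← eA, hQ]
      exact sup_le (map_mono hle) le_rfl
    rw [hQ, ← hS] at h2
    have h1 := card_le_of_le ((map_le_map_iff_of_injective hπ).1 h2)
    rw [d.card_S] at h1
    exact absurd h1 (not_le.2 (lt_mul_of_one_lt_left Nat.card_pos d.one_lt_q))
  have hZ : ∀ {u : H}, π u ∈ D.Z → u ∈ d.Z := fun {u} hu => by
    rw [← D.Z_eq t, hV, ← hS] at hu
    exact mem_map_inf_centralizer hπ hu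
  have hfix : ∀ g : H, (orderOf g).Coprime p → g ∈ fixN ((D.fD t y).comap π) d.W := fun g hg => by
    refine d.c.mem_of_coprime (fun hle => d.c.closure_not_le hA2le hnot ((normalClosure_le_normal
      (show (cj x (D.V t)).comap π ≤ fixN ((D.fD t y).comap π) d.W from fun a ha z hz => ?_)).trans hle)) hg
    exact (hZ (D.R_le_Z t (by
      rw [map_commutatorElement]
      exact f.DA2 _ ((inf_le_left.trans inf_le_right : D.fD t y ≤ D.Q (!t)) hz) _ ha))).1
  intro g hg z hz a ha
  have hzQ : π z ∈ D.Q t := hQ ▸ mem_map_of_mem π hz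
  obtain ⟨w, hw, k, hk, hwk⟩ := f.decQ _ hzQ
  obtain ⟨w', -, rfl⟩ := (f.WQ.trans ((D.hQS t).trans hSr)) hw
  obtain ⟨k', -, rfl⟩ := ((inf_le_left.trans inf_le_left : D.fD t y ≤ D.Q t).trans ((D.hQS t).trans hSr)) hk
  have hk2 : ⁅k', g⁆ ∈ (D.fW t y).comap π := f.VW (by
    rw [hV]; exact mem_map_of_mem π (hfix g hg k' hk))
  have he : z = w' * k' := hπ (by rw [map_mul, hwk])
  have h1 : ⁅z, g⁆ ∈ (D.fW t y).comap π := by
    rw [he, show ⁅w' * k', g⁆ = w' * ⁅k', g⁆ * w'⁻¹ * ⁅w', g⁆ by simp only [commutatorElement_def]; group]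
    exact mul_mem (Normal.conj_mem inferInstance _ hk2 w') (comm_mem (N := (D.fW t y).comap π) hw g)
  refine (hZ ?_).1
  rw [map_commutatorElement, map_commutatorElement]
  exact f.fixZ _ (f.move _ h1 _ (hS ▸ mem_map_of_mem π ha)) _ (hS ▸ mem_map_of_mem π ha)

end

/-- the modules of two bad situations normalise their join -/
theorem bad_pair {S : Type u} [Group S] [Finite S] {Ga Gb : Type u} [Group Ga] [Finite Ga] [Group Gb] [Finite Gb]
    {Fa : Type v} [Field Fa] [Fintype Fa] {Fb : Type w} [Field Fb] [Fintype Fb]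
    {τa : S →* Ga} {τb : S →* Gb} (hτa : Function.Injective τa) (hτb : Function.Injective τb)
    (da : Sit p Ga Fa) (db : Sit p Gb Fb) (hSa : da.S = τa.range) (hSb : db.S = τb.range)
    (hba : ¬ Good da) (hbb : ¬ Good db) : ((da.W.comap τa ⊔ db.W.comap τb).map τa).Normal := by
  obtain ⟨N, hN⟩ : ∃ N, N = τa.range.index * τb.range.index := ⟨_, rfl⟩
  obtain ⟨πa, hπa, ha⟩ := exists_rep τa hτa (Nat.pos_of_ne_zero (index_ne_zero_of_finite (H := τb.range))) hN.symm
  obtain ⟨πb, hπb, hb⟩ := exists_rep τb hτb (Nat.pos_of_ne_zero (index_ne_zero_of_finite (H := τa.range)))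
    ((mul_comm _ _).trans hN.symm)
  have hl : πa.comp τa = πb.comp τb := MonoidHom.ext fun s => Equiv.ext fun ⟨s', x⟩ => (ha s s' x).trans (hb s s' x).symm
  have eb : db.S.map πb = da.S.map πa := by
    rw [hSa, hSb, MonoidHom.map_range, MonoidHom.map_range, hl]
  obtain ⟨A, hAX, hAQ, hAV⟩ := exists_side da hπa (S := da.S.map πa) rfl
  obtain ⟨B, hBX, hBQ, hBV⟩ := exists_side db hπb eb
  set D := A.pair B
  by_cases hgood : ∃ t, ¬ D.Good t
  · rcases D.main hgood with ⟨t, ht⟩ | h2
    · cases t
      · exact absurd (good_of_one da hπa D (t := false) rfl hAX hAQ hAV ht) hba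
      · exact absurd (good_of_one db hπb D (t := true) eb hBX hBQ hBV ht) hbb
    · exact absurd (good_of_two da hπa D (t := false) rfl hAX hAQ hAV h2) hba
  · push Not at hgood
    have hL : D.L = (da.W.comap τa ⊔ db.W.comap τb).map (πa.comp τa) := by
      rw [Subgroup.map_sup, ← Subgroup.map_map, hl, ← Subgroup.map_map,
        Subgroup.map_comap_eq_self (da.W_le_S.trans hSa.le), Subgroup.map_comap_eq_self (db.W_le_S.trans hSb.le),
        ← hAV, ← hBV]
      rfl
    have h1 := hgood false
    rw [Pair.Good, show D.X false = A.X from rfl, hAX, hL, ← Subgroup.map_map] at h1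
    have := comap_normal hπa h1
    rwa [comap_map_eq_self_of_injective hπa] at this

/-- the modules of the bad situations over `S` -/
def badModules (p : ℕ) [Fact p.Prime] (S : Type u) [Group S] : Set (Subgroup S) :=
  {K | ∃ (G : Type u) (_ : Group G) (_ : Finite G) (τ : S →* G), Function.Injective τ ∧
    ∃ (F : Type) (_ : Field F) (_ : Fintype F) (d : Sit p G F), d.S = τ.range ∧ ¬ Good d ∧ K = d.W.comap τ}

theorem badModules_map {S T : Type u} [Group S] [Group T] (e : S ≃* T) {K : Subgroup S} (hK : K ∈ badModules p S) :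
    K.map e.toMonoidHom ∈ badModules p T := by
  obtain ⟨G, iG, iG', τ, hτ, F, iF, iF', d, hS, hbad, rfl⟩ := hK
  refine ⟨G, iG, iG', τ.comp e.symm.toMonoidHom, hτ.comp e.symm.injective, F, iF, iF', d, ?_, hbad, ?_⟩
  · rw [hS]
    exact SetLike.coe_injective (by
      simp only [MonoidHom.coe_range, MonoidHom.coe_comp, MulEquiv.toMonoidHom_eq_coe, MonoidHom.coe_coe]
      exact (e.symm.surjective.range_comp τ).symm)
  · rw [← Subgroup.comap_comap, Subgroup.map_equiv_eq_comap_symm']

theorem sSup_map {S T : Type u} [Group S] [Group T] (e : S ≃* T) :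
    (sSup (badModules p S)).map e.toMonoidHom = sSup (badModules p T) := by
  have h : ∀ {S T : Type u} [Group S] [Group T] (e : S ≃* T),
      (sSup (badModules p S)).map e.toMonoidHom ≤ sSup (badModules p T) := fun e => by
    rw [(gc_map_comap _).l_sSup]
    exact iSup₂_le fun K hK => le_sSup (badModules_map e hK)
  refine le_antisymm (h e) fun x hx => ⟨e.symm x, h e.symm ⟨x, hx, rfl⟩, e.apply_symm_apply x⟩

open scoped _root_.Classical in
/-- the join of the modules of the bad situations, or everything -/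
noncomputable def kZero (p : ℕ) [Fact p.Prime] (S : Type u) [Group S] : Subgroup S :=
  if sSup (badModules p S) = ⊥ then ⊤ else sSup (badModules p S)

theorem kZero_map {S T : Type u} [Group S] [Group T] (e : S ≃* T) :
    (kZero p S).map e.toMonoidHom = kZero p T := by
  classical
  unfold kZero
  have h : sSup (badModules p T) = ⊥ ↔ sSup (badModules p S) = ⊥ := by
    rw [← sSup_map e, Subgroup.map_eq_bot_iff_of_injective _ e.injective]
  by_cases hb : sSup (badModules p S) = ⊥
  · rw [if_pos hb, if_pos (h.2 hb), Subgroup.map_top_of_surjective (f := e.toMonoidHom) e.surjective]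
  · rw [if_neg hb, if_neg (mt h.1 hb), sSup_map e]

theorem kZero_ne_bot (S : Type u) [Group S] [Nontrivial S] : kZero p S ≠ ⊥ := by
  classical
  unfold kZero
  split_ifs with h
  · exact top_ne_bot
  · exact h

/-- in a bad situation the join is normal -/
theorem kZero_normal {S : Type u} [Group S] [Finite S] {G : Type u} [Group G] [Finite G] {τ : S →* G}
    (hτ : Function.Injective τ) {F : Type} [Field F] [Fintype F] (d : Sit p G F) (hS : d.S = τ.range)
    (hbad : ¬ Good d) : ((kZero p S).map τ).Normal := by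
  classical
  set Ka := d.W.comap τ
  have hKa : Ka ∈ badModules p S := ⟨G, inferInstance, inferInstance, τ, hτ, F, inferInstance, inferInstance, d, hS,
    hbad, rfl⟩
  have hne : sSup (badModules p S) ≠ ⊥ := fun hb => by
    have h1 : d.W.comap τ = ⊥ := le_bot_iff.1 ((le_sSup hKa).trans hb.le)
    have h2 : d.W = ⊥ := by
      rw [← Subgroup.map_comap_eq_self (d.W_le_S.trans hS.le), h1, Subgroup.map_bot]
    have := d.card_W
    rw [h2, card_bot] at this
    exact d.one_lt_q.ne' (Nat.eq_one_of_mul_eq_one_right this.symm)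
  rw [kZero, if_neg hne]
  have e : sSup (badModules p S) = ⨆ K : ↥(badModules p S), Ka ⊔ K.1 := by
    refine le_antisymm (sSup_le fun K hK => le_trans le_sup_right (le_iSup
      (fun K : ↥(badModules p S) => Ka ⊔ K.1) ⟨K, hK⟩)) (iSup_le fun K => sup_le (le_sSup hKa) (le_sSup K.2))
  rw [e, Subgroup.map_iSup]
  haveI : ∀ K : ↥(badModules p S), ((Ka ⊔ K.1).map τ).Normal := by
    rintro ⟨_, H, iH, iH', τ', hτ', F', iF, iF', d', hS', hbad', rfl⟩
    exact bad_pair hτ hτ' d d' hS hS' hbad hbad'
  exact Subgroup.iSup_normal _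

/-- the join, inside the ambient group -/
noncomputable def kSub (p : ℕ) [Fact p.Prime] {G : Type u} [Group G] (C : Subgroup G) : Subgroup G :=
  (kZero p ↥C).map C.subtype

theorem map_kSub {G H : Type u} [Group G] [Group H] (f : G →* H) (hf : Function.Injective f) (C : Subgroup G) :
    (kSub p C).map f = kSub p (C.map f) := by
  rw [kSub, kSub, ← kZero_map (C.equivMapOfInjective f hf), map_map, map_map]
  rfl

theorem kSub_le {G : Type u} [Group G] (C : Subgroup G) : kSub p C ≤ C := map_subtype_le _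

theorem normalizer_le_kSub {G : Type u} [Group G] [Finite G] (C : Subgroup G) :
    normalizer (C : Set G) ≤ normalizer (kSub p C : Set G) := by
  intro g hg
  rw [← Cfsg.Lib.Transfer.map_conj_eq_self_iff] at hg ⊢
  rw [map_kSub _ (MulAut.conj g).injective, hg]

end Cfsg.Lib.PushUpFocal
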