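import Cfsg.Agent.PushUpFocal.Crit
import Cfsg.Agent.Components.Functor.TransferApply

/-!
At the prime three the centre and one characteristic subgroup control the focal subgroup.
-/

set_option autoImplicit false
set_option linter.unusedSectionVars false
set_option linter.style.haveILetI false

namespace Cfsg.Lib.PushUpFocal

open Subgroup
open scoped commutatorElement
open Cfsg.Lib.Functor (TCtrl ind)
open Cfsg.Lib.Control (tgtIn)

universe u

variable (p : ℕ) [hp : Fact p.Prime]

/-- the characteristic subgroup -/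
noncomputable def kFun (Q : Type u) [Group Q] : Subgroup Q := kSub p (cSub p (⊤ : Subgroup Q))

/-- the centre -/
def cenFun (Q : Type u) [Group Q] : Subgroup Q := center Q

/-- the two functors -/
def twoW : Set (∀ (Q : Type u) [Group Q], Subgroup Q) := {cenFun.{u}, kFun.{u} p}

theorem kFun_ne_bot {Q : Type u} [Group Q] [Finite Q] (hQ : IsPGroup p Q) [Nontrivial Q] : kFun p Q ≠ ⊥ := by
  have hle : center Q ≤ cSub p (⊤ : Subgroup Q) := fun z hz => by
    refine ⟨⟨mem_top z, ?_⟩, ?_⟩ <;>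
      exact mem_centralizer_iff.2 fun y _ => mem_center_iff.1 hz y
  haveI : Nontrivial ↥(cSub p (⊤ : Subgroup Q)) := (nontrivial_iff_ne_bot _).2 fun h =>
    (nontrivial_iff_ne_bot (center Q)).1 hQ.center_nontrivial (le_bot_iff.1 (h ▸ hle))
  rw [kFun, kSub, Ne, map_eq_bot_iff_of_injective _ (cSub p (⊤ : Subgroup Q)).subtype_injective]
  exact kZero_ne_bot _

theorem kFun_map {Q R : Type u} [Group Q] [Group R] [Finite Q] [Finite R] (φ : Q ≃* R) :
    (kFun p Q).map φ.toMonoidHom = kFun p R := by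
  rw [kFun, kFun, map_kSub _ φ.injective, map_cSub _ φ.injective,
    Subgroup.map_top_of_surjective (f := φ.toMonoidHom) φ.surjective]

theorem twoW_charP {W : ∀ (Q : Type u) [Group Q], Subgroup Q} (hW : W ∈ twoW.{u} p) :
    Cfsg.IsCharPFunctor.{u} p W := by
  rcases hW with rfl | rfl
  · refine ⟨fun Q _ _ hQ hnt => ?_, fun Q R _ _ _ _ φ => ?_⟩
    · exact (nontrivial_iff_ne_bot _).1 (@IsPGroup.center_nontrivial p Q _ hQ _ hnt _)
    · show (center Q).map φ.toMonoidHom = center R
      ext y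
      rw [mem_map_equiv, mem_center_iff, mem_center_iff]
      constructor
      · intro hy r
        apply φ.symm.injective
        rw [map_mul, map_mul]
        exact hy _
      · intro hy q
        apply φ.injective
        rw [map_mul, map_mul, φ.apply_symm_apply]
        exact hy _
  · refine ⟨fun Q _ _ hQ hnt => kFun_ne_bot p hQ, fun Q R _ _ _ _ φ => ?_⟩
    haveI : Finite R := Finite.of_equiv Q φ.toEquiv
    exact kFun_map p φ

theorem ind_center {L : Type u} [Group L] [Finite L] (T : Subgroup L) :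
    Cfsg.inducedFunctor cenFun T = T ⊓ centralizer (T : Set L) := by
  rw [Cfsg.inducedFunctor, cenFun, Cfsg.Lib.PushUp.Char.map_center T.subtype_injective, range_subtype]

theorem ind_kFun {L : Type u} [Group L] [Finite L] (T : Subgroup L) :
    Cfsg.inducedFunctor (kFun p) T = kSub p (cSub p T) := by
  rw [Cfsg.inducedFunctor, kFun, map_kSub _ T.subtype_injective, map_cSub _ T.subtype_injective,
    ← MonoidHom.range_eq_map, range_subtype]

theorem tctrl_two (hp3 : p = 3) (G : Type u) [Group G] [Finite G] : TCtrl p (twoW.{u} p) G := by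
  classical
  refine Cfsg.Lib.Functor.ctrlT_main (fun W hW => twoW_charP p hW) _ G rfl fun L _ _ _ hc hMsub T => ?_
  set D := tgtIn (ind (twoW.{u} p) L) ⊤ (T : Subgroup L) with hD
  by_cases hT : (T : Subgroup L) = ⊥
  · have := Cfsg.Lib.Coprime.pCore_le_sylow (G := L) p T
    rw [hT, le_bot_iff] at this
    rw [this, bot_inf_eq]
    exact bot_le
  have hval : ∀ W ∈ twoW.{u} p, (T : Subgroup L) ⊓
      ⁅normalizer ((Cfsg.inducedFunctor W (T : Subgroup L) : Subgroup L) : Set L),
        normalizer ((Cfsg.inducedFunctor W (T : Subgroup L) : Subgroup L) : Set L)⁆ ≤ D := by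
    intro W hW
    refine le_trans (le_of_eq ?_) (le_iSup₂ (f := fun (W : Subgroup L → Subgroup L) (_ : W ∈ ind (twoW.{u} p) L) =>
      (T : Subgroup L) ⊓ ⁅⊤ ⊓ normalizer ((W (T : Subgroup L) : Subgroup L) : Set L),
        ⊤ ⊓ normalizer ((W (T : Subgroup L) : Subgroup L) : Set L)⁆) _ ⟨_, hW, rfl⟩)
    simp only [top_inf_eq]
  have hnorm : ∀ W ∈ twoW.{u} p, (Cfsg.inducedFunctor W (T : Subgroup L)).Normal →
      Cfsg.pCore p L ⊓ commutator L ≤ D := fun W hW hn => by
    refine le_trans ?_ (hval W hW)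
    rw [normalizer_eq_top_iff.2 hn, ← _root_.commutator_def]
    exact inf_le_inf_right _ (Cfsg.Lib.Coprime.pCore_le_sylow p T)
  by_cases hZ : ((T : Subgroup L) ⊓ centralizer ((T : Subgroup L) : Set L)).Normal
  · exact hnorm cenFun (Or.inl rfl) (ind_center (T : Subgroup L) ▸ hZ)
  by_cases hW : (kSub p (cSub p (T : Subgroup L))).Normal
  · exact hnorm (kFun p) (Or.inr rfl) (ind_kFun p (T : Subgroup L) ▸ hW)
  refine crit3 hp3 hc T D ?_ (fun M hM hTM => ?_) hZ hW
  · refine le_trans (le_inf (commutator_le_self _) (commutator_mono ?_ ?_)) (hval cenFun (Or.inl rfl)) <;>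
    · rw [ind_center]
      exact Cfsg.Lib.Coprime.le_normalizer_inf Subgroup.le_normalizer
        (Subgroup.le_normalizer.trans (Cfsg.Lib.Thompson.normalizer_le_normalizer_centralizer _))
  · exact (Cfsg.Lib.Functor.transfer_in_subgroup (fun W hW => twoW_charP p hW) hTM T.2 (fun hd => T.not_dvd_index
      (hd.trans (relIndex_dvd_index_of_le hTM))) (hMsub M hM)).trans Cfsg.Lib.Control.tgtIn_le_top

omit hp in
theorem focal_split {G : Type u} [Group G] [Finite G] [Fact p.Prime] (P : Sylow p G) {C N Y : Subgroup G}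
    (hPC : (P : Subgroup G) ≤ C) (hCN : C ≤ N) (hNC : N ≤ normalizer (C : Set G))
    (hY : normalizer ((P : Subgroup G) : Set G) ≤ Y) :
    (P : Subgroup G) ⊓ ⁅N, N⁆ ≤ ((P : Subgroup G) ⊓ ⁅C, C⁆) ⊔ ((P : Subgroup G) ⊓ ⁅Y, Y⁆) := by
  have hPN := hPC.trans hCN
  haveI : (C.subgroupOf N).Normal := normal_subgroupOf_of_le_normalizer hNC
  have hfr : ∀ u ∈ N, ∃ c ∈ C, ∃ n ∈ Y, n ∈ normalizer ((P : Subgroup G) : Set G) ∧ n * c = u := by
    intro u hu
    let PN : Sylow p ↥N := P.subtype hPN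
    let PC : Sylow p ↥(C.subgroupOf N) := PN.subtype (show (PN : Subgroup ↥N) ≤ C.subgroupOf N from fun x hx => hPC hx)
    have h1 := Sylow.normalizer_sup_eq_top PC
    obtain ⟨n, hn, c, hc, hnc⟩ := mem_sup_of_normal_right.1 (h1.ge (mem_top (⟨u, hu⟩ : ↥N)))
    have hnP : (n : G) ∈ normalizer ((P : Subgroup G) : Set G) := by
      have he : (PC : Subgroup ↥(C.subgroupOf N)).map (C.subgroupOf N).subtype = (PN : Subgroup ↥N) := by
        rw [Sylow.coe_subtype, map_subgroupOf_eq_of_le (show (PN : Subgroup ↥N) ≤ C.subgroupOf N from fun x hx => hPC hx)]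
      rw [he] at hn
      rw [mem_normalizer_iff]
      intro x
      constructor
      · intro hx
        exact (mem_normalizer_iff.1 hn ⟨x, hPN hx⟩).1 hx
      · intro hx
        have hxN : x ∈ N := by
          have := mul_mem (mul_mem (inv_mem n.2) (hPN hx)) n.2
          simpa [mul_assoc] using this
        exact (mem_normalizer_iff.1 hn ⟨x, hxN⟩).2 hx
    exact ⟨c, hc, n, hY hnP, hnP, congrArg Subtype.val hnc⟩
  intro x hx
  have hx' : (⟨x, hPN hx.1⟩ : ↥N) ∈ commutator ↥N ⊓ (P.subtype hPN : Subgroup ↥N) := by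
    refine ⟨?_, hx.1⟩
    have h2 : x ∈ (commutator ↥N).map N.subtype := by
      rw [map_subtype_commutator]; exact hx.2
    obtain ⟨y, hy, hyx⟩ := h2
    exact (show y = ⟨x, hPN hx.1⟩ from Subtype.ext hyx) ▸ hy
  rw [Subgroup.commutator_inf_eq_focalSubgroup] at hx'
  have h3 := mem_map_of_mem N.subtype hx'
  rw [focalSubgroup_def, MonoidHom.map_closure] at h3
  refine (closure_le _).2 ?_ h3
  rintro _ ⟨_, ⟨hgP, z, hz, u, rfl⟩, rfl⟩
  obtain ⟨c, hc, n, hnY, hnP, he⟩ := hfr u u.2
  have hgP' : ⁅(z : G), n * c⁆ ∈ (P : Subgroup G) := by rw [he]; exact hgP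
  have hzP : (z : G) ∈ (P : Subgroup G) := hz
  show ⁅(z : G), (u : G)⁆ ∈ _
  rw [← he, show ⁅(z : G), n * c⁆ = ⁅(z : G), n⁆ * (n * ⁅(z : G), c⁆ * n⁻¹) by
    simp only [commutatorElement_def]; group]
  have h4 : ⁅(z : G), n⁆ ∈ (P : Subgroup G) := by
    rw [show ⁅(z : G), n⁆ = z * (n * (z : G)⁻¹ * n⁻¹) by simp only [commutatorElement_def]; group]
    exact mul_mem hzP ((mem_normalizer_iff.1 hnP _).1 (inv_mem hzP))
  have h5 : n * ⁅(z : G), c⁆ * n⁻¹ ∈ (P : Subgroup G) := by
    rw [show n * ⁅(z : G), c⁆ * n⁻¹ = ⁅(z : G), n⁆⁻¹ * ⁅(z : G), n * c⁆ by simp only [commutatorElement_def]; group]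
    exact mul_mem (inv_mem h4) hgP'
  refine mul_mem (mem_sup_right ⟨h4, commutator_mem_commutator (hY (Subgroup.le_normalizer hzP)) hnY⟩)
    (mem_sup_left ⟨h5, ?_⟩)
  have hnC : n ∈ normalizer (C : Set G) := hNC (by
    have := mul_mem u.2 (inv_mem (hCN hc))
    rwa [← he, mul_inv_cancel_right] at this)
  rw [show n * ⁅(z : G), c⁆ * n⁻¹ = ⁅n * z * n⁻¹, n * c * n⁻¹⁆ by simp only [commutatorElement_def]; group]
  exact commutator_mem_commutator ((mem_normalizer_iff.1 hnC _).1 (hPC hzP)) ((mem_normalizer_iff.1 hnC _).1 hc)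

theorem three_focal {S : Type u} [Group S] [Finite S] [Nontrivial S] (hS : IsPGroup p S) (hp3 : p = 3) :
    ∃ K : Subgroup S, K ≠ ⊥ ∧ K.Characteristic ∧ ∀ (G : Type u) [Group G] [Finite G] (τ : S →* G),
      Function.Injective τ → (∃ P : Sylow p G, (P : Subgroup G) = τ.range) → ∀ g : G, g ∈ τ.range ⊓ commutator G ↔
        ∃ a ∈ τ.range ⊓ ⁅centralizer ((τ.range ⊓ centralizer (τ.range : Set G) : Subgroup G) : Set G),
          centralizer ((τ.range ⊓ centralizer (τ.range : Set G) : Subgroup G) : Set G)⁆,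
        ∃ b ∈ τ.range ⊓ ⁅normalizer ((K.map τ : Subgroup G) : Set G), normalizer ((K.map τ : Subgroup G) : Set G)⁆,
          g = a * b := by
  refine ⟨kFun p S, kFun_ne_bot p hS, characteristic_iff_map_eq.2 fun φ => kFun_map p φ, fun G _ _ τ hτ hP g => ?_⟩
  obtain ⟨P, hP⟩ := hP
  have hK : (kFun p S).map τ = Cfsg.inducedFunctor (kFun p) (P : Subgroup G) := by
    rw [ind_kFun, hP, kFun, map_kSub τ hτ, map_cSub τ hτ, ← MonoidHom.range_eq_map]
  rw [hK, ← hP]
  set R := (P : Subgroup G) with hR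
  set Z := R ⊓ centralizer (R : Set G) with hZ
  set C := centralizer (Z : Set G)
  set K := Cfsg.inducedFunctor (kFun p) R
  have hRC : R ≤ C := fun r hr => mem_centralizer_iff.2 fun z hz => (mem_centralizer_iff.1 hz.2 r hr).symm
  have hnK : normalizer (R : Set G) ≤ normalizer (K : Set G) := by
    rw [show K = kSub p (cSub p R) from ind_kFun p R]
    exact (normalizer_le_cSub R).trans (normalizer_le_kSub _)
  set A := R ⊓ ⁅C, C⁆
  set B := R ⊓ ⁅normalizer (K : Set G), normalizer (K : Set G)⁆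
  have hmain : R ⊓ commutator G ≤ A ⊔ B := by
    refine (tctrl_two p hp3 G P).trans ?_
    refine iSup₂_le fun W' hW' => ?_
    obtain ⟨W, hW, rfl⟩ := hW'
    rw [top_inf_eq]
    rcases hW with rfl | rfl
    · simp only [ind_center]
      exact focal_split p P hRC (centralizer_le_normalizer _)
        (Cfsg.Lib.Thompson.normalizer_le_normalizer_centralizer _) hnK
    · exact le_sup_right
  have hAn : B ≤ normalizer (A : Set G) := by
    refine inf_le_left.trans (Cfsg.Lib.Coprime.le_normalizer_inf Subgroup.le_normalizer ?_)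
    exact hRC.trans (Cfsg.Lib.PushUp.le_normalizer_comm Subgroup.le_normalizer Subgroup.le_normalizer)
  constructor
  · intro hg
    have h1 := hmain hg
    rw [← SetLike.mem_coe, coe_mul_of_right_le_normalizer_left _ _ hAn] at h1
    obtain ⟨a, ha, b, hb, hab⟩ := h1
    exact ⟨a, ha, b, hb, hab.symm⟩
  · rintro ⟨a, ha, b, hb, rfl⟩
    rw [_root_.commutator_def]
    exact mul_mem ⟨ha.1, commutator_mono le_top le_top ha.2⟩ ⟨hb.1, commutator_mono le_top le_top hb.2⟩

end Cfsg.Lib.PushUpFocal
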