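import Cfsg.Agent.PushUpFocal.Fun
import Cfsg.Agent.Components.CharP

/-!
The situation inside the normal closure of `C_S(Z(J(S)))`, and a quadratic element for it.
-/

set_option autoImplicit false
set_option linter.unusedSectionVars false
set_option linter.style.haveILetI false

namespace Cfsg.Lib.PushUpFocal

open Subgroup Cfsg.Lib.BGN Cfsg.Lib.BGN.P
open Cfsg.Lib.Fusion (maxAb)
open scoped commutatorElement

universe u v

variable {p : ℕ} [hp : Fact p.Prime] {G : Type u} [Group G] [Finite G]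

/-- a subgroup of the `p`-group `T` that is its own commutator with `T` modulo `V` lies in `V` -/
theorem le_of_le_comm {T U V : Subgroup G} [V.Normal] (hT : IsPGroup p T) (hU : U ≤ T) (h : U ≤ ⁅U, T⁆ ⊔ V) :
    U ≤ V := by
  set π := QuotientGroup.mk' V
  have h1 : U.map π ≤ ⁅U.map π, T.map π⁆ := by
    refine (map_mono h).trans ?_
    rw [Subgroup.map_sup, QuotientGroup.map_mk'_self, sup_bot_eq, map_commutator]
  have key : ∀ k, U.map π ≤ ((Subgroup.lowerCentralSeries (⊤ : Subgroup ↥T) k).map T.subtype).map π := by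
    intro k
    induction k with
    | zero =>
      rw [Subgroup.lowerCentralSeries_zero, ← MonoidHom.range_eq_map, range_subtype]
      exact map_mono hU
    | succ k ih =>
      rw [show Subgroup.lowerCentralSeries (⊤ : Subgroup ↥T) (k + 1) =
        ⁅Subgroup.lowerCentralSeries (⊤ : Subgroup ↥T) k, (⊤ : Subgroup ↥T)⁆ from rfl, map_commutator,
        ← MonoidHom.range_eq_map, range_subtype, map_commutator]
      exact h1.trans (commutator_mono ih le_rfl)
  haveI : Group.IsNilpotent ↥T := hT.isNilpotent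
  obtain ⟨k, hk⟩ := Subgroup.nilpotent_iff_lowerCentralSeries.1 this
  have h2 := key k
  rw [hk, Subgroup.map_bot, Subgroup.map_bot, le_bot_iff, Subgroup.map_eq_bot_iff, QuotientGroup.ker_mk'] at h2
  exact h2

/-- a subgroup of a normal subgroup normal `p`-group lies in the core -/
theorem core_le_core {N : Subgroup G} [N.Normal] :
    (Cfsg.pCore p ↥N).map N.subtype ≤ Cfsg.pCore p G := by
  haveI : (Cfsg.pCore p ↥N).Characteristic := Cfsg.Lib.Components.pCore_characteristic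
  exact le_sSup ⟨(ConjAct.normal_of_characteristic_of_normal : ((Cfsg.pCore p ↥N).map N.subtype).Normal),
    (Cfsg.Lib.Components.isPGroup_pCore p).map _⟩

section

variable {F : Type v} [Field F] [Fintype F] (d : Sit p G F)

/-- an element of a largest abelian subgroup acts quadratically on an abelian group containing the module -/
theorem quad {B V : Subgroup G} (hB : B ∈ maxAb d.S) (hV : IsMulCommutative V) (hVS : V ≤ d.S)
    (hWV : d.W ≤ V) (hc : ∀ b ∈ B ⊓ Cfsg.pCore p G, ∀ v ∈ V, b * v = v * b)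
    {a : G} (ha : a ∈ B) (haQ : a ∉ Cfsg.pCore p G) {x : G} (hx : x ∈ V) : ⁅⁅x, a⁆, a⁆ = 1 := by
  haveI := d.W_normal
  haveI := d.c.core_normal
  have hab : IsMulCommutative ↥((B ⊓ Cfsg.pCore p G) ⊔ V) := Cfsg.Lib.PushUp.comm_sup (by
    refine sup_le ?_ ?_
    · intro y hy
      exact mem_inf.2 ⟨mem_centralizer_iff.2 fun z hz => Cfsg.Lib.PushUp.comm_of hB.2.1 hz.1 hy.1,
        mem_centralizer_iff.2 fun z hz => (hc y hy z hz).symm⟩
    · intro y hy
      exact mem_inf.2 ⟨mem_centralizer_iff.2 fun z hz => hc z hz y hy,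
        mem_centralizer_iff.2 fun z hz => Cfsg.Lib.PushUp.comm_of hV hz hy⟩)
  have h1 := hB.2.2 _ (sup_le (inf_le_left.trans hB.1) hVS) hab
  have h2 := Cfsg.Lib.PushUp.card_mul_le (B ⊓ Cfsg.pCore p G) V
  have h3 := d.c.card_le B hB.1
  have h4 : Nat.card ↥(B ⊓ Cfsg.pCore p G ⊓ V) ≤ Nat.card ↥(B ⊓ V) :=
    card_le_of_le (inf_le_inf_right _ inf_le_left)
  set q := p ^ d.c.n
  have hVle : Nat.card ↥V ≤ q * Nat.card ↥(B ⊓ V) := by
    suffices hh : Nat.card ↥(B ⊓ Cfsg.pCore p G) * Nat.card ↥V ≤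
        Nat.card ↥(B ⊓ Cfsg.pCore p G) * (q * Nat.card ↥(B ⊓ V)) from Nat.le_of_mul_le_mul_left hh Nat.card_pos
    calc Nat.card ↥(B ⊓ Cfsg.pCore p G) * Nat.card V
        ≤ Nat.card ↥((B ⊓ Cfsg.pCore p G) ⊔ V) * Nat.card ↥(B ⊓ Cfsg.pCore p G ⊓ V) := h2
      _ ≤ q * Nat.card ↥(B ⊓ Cfsg.pCore p G) * Nat.card ↥(B ⊓ V) := Nat.mul_le_mul (h1.trans h3) h4
      _ = _ := by ring
  have hWB : d.W ⊓ (B ⊓ V) ≤ d.Z := fun w hw => ⟨hw.1, d.fix_le (hB.1 ha) haQ ⟨hw.1,
    mem_centralizer_singleton_iff.2 (Cfsg.Lib.PushUp.comm_of hB.2.1 hw.2.1 ha)⟩⟩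
  have hsup : d.W ⊔ (B ⊓ V) = V := by
    refine Subgroup.eq_of_le_of_card_ge (sup_le hWV inf_le_right) ?_
    refine Nat.le_of_mul_le_mul_right (c := Nat.card d.Z) ?_ Nat.card_pos
    calc Nat.card V * Nat.card d.Z ≤ q * Nat.card ↥(B ⊓ V) * Nat.card d.Z := Nat.mul_le_mul_right _ hVle
      _ = Nat.card d.W * Nat.card ↥(B ⊓ V) := by rw [d.card_W]; ring
      _ ≤ _ := (Cfsg.Lib.PushUp.card_mul_le _ _).trans (Nat.mul_le_mul_left _ (card_le_of_le hWB))
  obtain ⟨w, hw, b, hb, rfl⟩ := mem_sup_of_normal_left.1 (hsup.ge hx)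
  have hba : b * a = a * b := Cfsg.Lib.PushUp.comm_of hB.2.1 hb.1 ha
  have h5 : ⁅w * b, a⁆ = ⁅w, a⁆ := by
    calc ⁅w * b, a⁆ = w * (b * a) * b⁻¹ * w⁻¹ * a⁻¹ := by simp only [commutatorElement_def]; group
      _ = _ := by rw [hba]; simp only [commutatorElement_def]; group
  rw [h5, commutatorElement_eq_one_iff_mul_comm]
  exact (mem_centralizer_iff.1 (d.comm_le (commutator_mem_commutator hw (hB.1 ha))) a (hB.1 ha)).symm

end

theorem maxAb_eq {B C : Subgroup G} (hCB : C ≤ B) (hA : ∀ A ∈ maxAb B, A ≤ C) : maxAb C = maxAb B := by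
  obtain ⟨A₀, hA₀⟩ := Cfsg.Lib.Fusion.maxAb_nonempty (T := B)
  refine Set.ext fun A => ⟨fun h => ⟨h.1.trans hCB, h.2.1, fun A' h1 h2 => (hA₀.2.2 A' h1 h2).trans
    (h.2.2 A₀ (hA A₀ hA₀) hA₀.2.1)⟩, fun h => ⟨hA A h, h.2.1, fun A' h1 h2 => h.2.2 A' (h1.trans hCB) h2⟩⟩

/-- the normal closure of `C_S(Z(J(S)))` is again in the pushing-up situation -/
theorem exists_sit_closure {F : Type} [Field F] [Fintype F] (c : Cfsg.Lib.PushUp.Ctx p G F)
    (hker : Cfsg.pCore p G ≤ c.ψ.ker) (hZ : ¬ c.Zs ≤ center G)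
    (hC : ¬ ((c.S : Subgroup G) ⊓ centralizer (c.Zj : Set G)).Normal) :
    ∃ (N : Subgroup G) (d : Sit p ↥N F), N.Normal ∧ N ⊔ (c.S : Subgroup G) = ⊤ ∧
      (c.S : Subgroup G) ⊓ N = (c.S : Subgroup G) ⊓ centralizer (c.Zj : Set G) ∧
      d.S = ((c.S : Subgroup G) ⊓ centralizer (c.Zj : Set G)).subgroupOf N ∧
      (c.S : Subgroup G) ⊓ centralizer (c.Zj : Set G) ≤ N := by
  haveI := c.core_normal
  set C := (c.S : Subgroup G) ⊓ centralizer (c.Zj : Set G) with hCdef
  set N := normalClosure (C : Set G)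
  have hCN : C ≤ N := Subgroup.le_normalClosure
  obtain ⟨A, hA⟩ : ∃ A, c.Case A := by
    rcases c.cases with h | h | h
    · exact absurd h hZ
    · exact absurd h hC
    · exact h
  have hmax : ∀ A' ∈ maxAb (c.S : Subgroup G), A' ≤ C := fun A' hA' a ha =>
    ⟨hA'.1 ha, mem_centralizer_iff.2 fun x hx => (c.Zj_comm hx hA' ha).symm⟩
  have hSN : (c.S : Subgroup G) ⊓ N = C := le_antisymm hA.inf_closure_le (le_inf inf_le_left hCN)
  have hAC : A ≤ C := hmax A hA.hA
  have hNM : ¬ N ≤ c.M := c.closure_not_le inf_le_left fun hle => hA.hAQ (hAC.trans hle)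
  have hNS : N ⊔ (c.S : Subgroup G) = ⊤ := c.sup_eq_top hNM
  have hSC : (c.S : Subgroup G) ≤ C ⊔ Cfsg.pCore p G := hA.main.2.2.2.2.1.trans (sup_le_sup hAC le_rfl)
  have hcoreN : Cfsg.pCore p G ⊓ N ≤ C := (inf_le_inf_right _ c.core_le).trans hSN.le
  -- the ingredients of the situation
  have hnd : ¬ p ∣ ((c.S : Subgroup G).subgroupOf N).index := fun h => c.S.not_dvd_index
    (h.trans (Cfsg.Lib.Components.relIndex_dvd_index_of_normal_right (c.S : Subgroup G) N))
  let P : Sylow p ↥N := (c.S.2.comap_of_injective N.subtype N.subtype_injective).toSylow hnd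
  have hP : (P : Subgroup ↥N) = C.subgroupOf N := by
    show (c.S : Subgroup G).subgroupOf N = _
    rw [← hSN, inf_subgroupOf_right]
  have hmapP : (P : Subgroup ↥N).map N.subtype = C := by rw [hP, map_subgroupOf_eq_of_le hCN]
  have hle : ∀ X : Subgroup ↥N, X ≠ ⊤ → (P : Subgroup ↥N) ≤ X → X ≤ c.M.subgroupOf N := by
    intro X hX hPX
    have hCX : C ≤ X.map N.subtype := hmapP ▸ map_mono hPX
    refine map_le_iff_le_comap.1 (le_sup_left.trans (c.le_M (X.map N.subtype ⊔ Cfsg.pCore p G) (fun htop => hX ?_)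
      (hSC.trans (sup_le_sup hCX le_rfl))))
    refine eq_top_iff.2 fun y _ => ?_
    obtain ⟨x, hx, q, hq, hxq⟩ := mem_sup_of_normal_right.1 (htop.ge (mem_top (y : G)))
    obtain ⟨x', hx', rfl⟩ := hx
    have hqN : q ∈ N := by
      rw [show q = (x' : G)⁻¹ * (y : G) by rw [← hxq]; simp]
      exact mul_mem (inv_mem x'.2) y.2
    obtain ⟨z, hz, hzy⟩ := mul_mem (show (x' : G) ∈ X.map N.subtype from mem_map_of_mem N.subtype hx')
      (hCX (hcoreN ⟨hq, hqN⟩))
    exact (show z = y from Subtype.ext (hzy.trans hxq)) ▸ hz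
  let cN : Cfsg.Lib.PushUp.Ctx p ↥N F :=
    { S := P, M := c.M.subgroupOf N, hMne := fun h => hNM (subgroupOf_eq_top.1 h), le_M := hle
      hc := Cfsg.Lib.Components.charP_subnormal (show Cfsg.Lib.Components.CharPGroup p G from c.hc)
        (Subgroup.Normal.isSubnormal inferInstance)
      ψ := c.ψ.comp N.subtype
      hψ := by
        rw [← MonoidHom.range_eq_top, MonoidHom.range_comp, range_subtype, eq_top_iff,
          ← map_top_of_surjective c.ψ c.hψ, ← hNS, Subgroup.map_sup]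
        refine sup_le le_rfl ((map_mono hSC).trans ?_)
        rw [Subgroup.map_sup, (Subgroup.map_eq_bot_iff _).2 hker, sup_bot_eq]
        exact map_mono hCN
      n := c.n, hn := c.hn, hF := c.hF }
  have hZjN : cN.Zj.map N.subtype = c.Zj := by
    rw [Cfsg.Lib.PushUp.Ctx.Zj, Cfsg.Lib.ZJ.centerThompsonAOf_map_injOn N.subtype_injective.injOn, hmapP,
      Cfsg.centerThompsonAOf, Cfsg.Lib.PushUp.Ctx.Zj, Cfsg.centerThompsonAOf, Cfsg.Lib.Fusion.thompsonAOf_eq,
      Cfsg.Lib.Fusion.thompsonAOf_eq, maxAb_eq inf_le_left hmax]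
  have hnn : ¬ (P : Subgroup ↥N).Normal := fun hn => hC (by
    rw [← normalizer_eq_top_iff, ← top_le_iff, ← hNS]
    refine sup_le ?_ ?_
    · refine Cfsg.Lib.PushUp.le_normalizer_of_maps fun k hk x hx => ?_
      have := hn.conj_mem ⟨x, hCN hx⟩ (by rw [hP]; exact mem_subgroupOf.2 hx) ⟨k, hk⟩
      rw [hP] at this
      exact mem_subgroupOf.1 this
    · rw [← hSN]
      exact Cfsg.Lib.Coprime.le_normalizer_inf Subgroup.le_normalizer
        (le_top.trans (normalizer_eq_top (H := N)).ge))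
  have hcase : ∃ A, cN.Case A := by
    rcases cN.cases with h | h | h
    · refine absurd ?_ hZ
      intro z hz
      have hzC : z ∈ C := ⟨hz.1, mem_centralizer_iff.2 fun x hx => mem_centralizer_iff.1 hz.2 x
        (Cfsg.Lib.Fusion.thompsonAOf_le _ (mem_inf.1 hx).1)⟩
      have h1 : (⟨z, hCN hzC⟩ : ↥N) ∈ center ↥N := h ⟨by
          show _ ∈ (P : Subgroup ↥N)
          rw [hP]; exact mem_subgroupOf.2 hzC,
        mem_centralizer_iff.2 fun y hy => Subtype.ext (mem_centralizer_iff.1 hz.2 (y : G) (by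
          have : (y : G) ∈ C := hmapP.le (mem_map_of_mem N.subtype hy)
          exact this.1))⟩
      exact c.central_of_le hNM (fun g hg => congrArg Subtype.val (mem_center_iff.1 h1 ⟨g, hg⟩))
        (fun g hg => mem_centralizer_iff.1 hz.2 g hg)
    · refine absurd h ?_
      have e : (cN.S : Subgroup ↥N) ⊓ centralizer (cN.Zj : Set ↥N) = (P : Subgroup ↥N) :=
        le_antisymm inf_le_left (le_inf le_rfl fun y hy => mem_centralizer_iff.2 fun x hx => Subtype.ext (by
          have h1 : (y : G) ∈ C := hmapP.le (mem_map_of_mem N.subtype hy)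
          exact mem_centralizer_iff.1 h1.2 (x : G) (hZjN.le (mem_map_of_mem N.subtype hx))))
      rw [e]
      exact hnn
    · exact h
  exact ⟨N, ⟨cN, hnn, hcase⟩, inferInstance, hNS, hSN, hP, hCN⟩

end Cfsg.Lib.PushUpFocal
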